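/-
Linear F-sets: a normal set `D` of elements of odd prime order `p`, any two of which generate a group `R⟨x⟩` with `R` an
`r`-group.  Definitions.
-/
import Cfsg.Agent.TECH.SylIn
import Mathlib.GroupTheory.Commutator.Basic
import Mathlib.GroupTheory.Subgroup.Simple

set_option autoImplicit false

namespace CL.FS

open Subgroup

variable {G : Type*} [Group G]

/-- the derived group of the group generated by `Y` -/
def RR (Y : Set G) : Subgroup G := ⁅closure Y, closure Y⁆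

/-- the elements of `RR Y` that centralise `Y` -/
def EE (Y : Set G) : Subgroup G := RR Y ⊓ centralizer Y

/-- the conjugate `g Y g⁻¹` of a set -/
def cjs (g : G) (Y : Set G) : Set G := (fun y => g * y * g⁻¹) '' Y

/-- the points fixed by `t` -/
def Fx (D : Set G) (t : G) : Set G := D ∩ (centralizer ({t} : Set G) : Set G)

/-- linear F-set -/
structure IsF (p r : ℕ) (D : Set G) : Prop where
  pp : p.Prime
  p2 : p ≠ 2
  rp : r.Prime
  ne : r ≠ p
  ord : ∀ x ∈ D, orderOf x = p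
  conj : ∀ x ∈ D, ∀ g : G, g * x * g⁻¹ ∈ D
  pg : ∀ x ∈ D, ∀ y ∈ D, IsPGroup r (RR {x, y})
  mem : ∀ x ∈ D, ∀ y ∈ D, x⁻¹ * y ∈ RR {x, y}

/-- all lines are non-abelian -/
def NA (D : Set G) : Prop := ∀ x ∈ D, ∀ y ∈ D, IsMulCommutative (RR {x, y}) → x = y

/-- all lines are abelian -/
def AB (D : Set G) : Prop := ∀ x ∈ D, ∀ y ∈ D, IsMulCommutative (RR {x, y})

/-- for `r = 2`: the involutions of a line group are central in it -/
def SQ (r : ℕ) (D : Set G) : Prop :=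
  r = 2 → ∀ x ∈ D, ∀ y ∈ D, ∀ ρ ∈ RR {x, y}, ρ * ρ = 1 → ρ * x = x * ρ

/-- a good subspace -/
structure Sub (r : ℕ) (D Y : Set G) : Prop where
  sub : Y ⊆ D
  pg : IsPGroup r (RR Y)
  cl : ∀ y ∈ D, y ∈ closure Y → y ∈ Y

/-- a block: a maximal proper subspace -/
structure Blk (D Y : Set G) : Prop where
  sub : Y ⊆ D
  ne : closure Y ≠ ⊤
  max : ∀ Y' : Set G, Y' ⊆ D → Y ⊆ Y' → closure Y' ≠ ⊤ → Y' = Y

/-- the minimal counterexample -/
structure St (p r : ℕ) (D : Set G) : Prop extends IsF p r D where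
  na : NA D
  sq : SQ r D
  gen : closure D = ⊤
  bad : ¬ IsPGroup r (commutator G)
  prop : ∀ Y : Set G, Y ⊆ D → closure Y ≠ ⊤ → IsPGroup r (RR Y)
  zr : IsPGroup r (center G)
  nrm : ∀ K : Subgroup G, K.Normal → K ≤ center G ∨ commutator G ≤ K
  perf : ⁅commutator G, commutator G⁆ = commutator G
  simple : IsSimpleGroup (commutator (G ⧸ center G))

theorem mem_cjs {g y : G} {Y : Set G} : y ∈ cjs g Y ↔ g⁻¹ * y * g ∈ Y :=
  ⟨by rintro ⟨z, hz, rfl⟩; simpa [mul_assoc] using hz, fun h => ⟨_, h, by group⟩⟩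

theorem conj_mem_cjs {g y : G} {Y : Set G} : g * y * g⁻¹ ∈ cjs g Y ↔ y ∈ Y := by
  rw [mem_cjs]; simp [mul_assoc]

theorem cjs_one (Y : Set G) : cjs 1 Y = Y := by ext; simp [mem_cjs]

theorem cjs_mul (g k : G) (Y : Set G) : cjs (g * k) Y = cjs g (cjs k Y) := by
  ext; simp [mem_cjs, mul_assoc]

theorem cjs_inv_cjs (g : G) (Y : Set G) : cjs g⁻¹ (cjs g Y) = Y := by rw [← cjs_mul, inv_mul_cancel, cjs_one]

theorem cjs_cjs_inv (g : G) (Y : Set G) : cjs g (cjs g⁻¹ Y) = Y := by rw [← cjs_mul, mul_inv_cancel, cjs_one]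

theorem cjs_inj (g : G) {Y Y' : Set G} (h : cjs g Y = cjs g Y') : Y = Y' := by
  rw [← cjs_inv_cjs g Y, h, cjs_inv_cjs]

theorem cjs_inter (g : G) (Y Y' : Set G) : cjs g (Y ∩ Y') = cjs g Y ∩ cjs g Y' := by
  ext; simp [mem_cjs]

theorem cjs_mono (g : G) {Y Y' : Set G} (h : Y ⊆ Y') : cjs g Y ⊆ cjs g Y' := Set.image_mono h

theorem mem_nrm_iff {g : G} {Y : Set G} : g ∈ normalizer Y ↔ cjs g Y = Y := mem_normalizer_iff_conj_image_eq

theorem conj_mem_of_nrm {g y : G} {Y : Set G} (hg : g ∈ normalizer Y) (hy : y ∈ Y) : g * y * g⁻¹ ∈ Y :=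
  (mem_set_normalizer_iff.1 hg y).1 hy

theorem mem_nrm_cjs {g k : G} {Y : Set G} : k ∈ normalizer (cjs g Y) ↔ g⁻¹ * k * g ∈ normalizer Y := by
  rw [mem_nrm_iff, mem_nrm_iff, cjs_mul, cjs_mul]
  exact ⟨fun h => by rw [h, cjs_inv_cjs], fun h => by rw [← cjs_cjs_inv g (cjs k _), h]⟩

theorem mem_cen_cjs {g k : G} {Y : Set G} : k ∈ centralizer (cjs g Y) ↔ g⁻¹ * k * g ∈ centralizer Y := by
  simp only [mem_centralizer_iff]
  refine ⟨fun h y hy => ?_, ?_⟩
  · have := h _ (conj_mem_cjs.2 hy)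
    calc y * (g⁻¹ * k * g) = g⁻¹ * (g * y * g⁻¹ * k) * g := by group
      _ = _ := by rw [this]; group
  · rintro h _ ⟨y, hy, rfl⟩
    calc g * y * g⁻¹ * k = g * (y * (g⁻¹ * k * g)) * g⁻¹ := by group
      _ = _ := by rw [h y hy]; group

theorem closure_map {G' : Type*} [Group G'] (f : G →* G') (Y : Set G) : (closure Y).map f = closure (f '' Y) :=
  MonoidHom.map_closure f Y

theorem RR_map {G' : Type*} [Group G'] (f : G →* G') (Y : Set G) : (RR Y).map f = RR (f '' Y) := by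
  rw [RR, RR, map_commutator, closure_map]

theorem RR_pair_map {G' : Type*} [Group G'] (f : G →* G') (x y : G) : (RR {x, y}).map f = RR {f x, f y} := by
  rw [RR_map, Set.image_pair]

theorem cjs_eq (g : G) (Y : Set G) : cjs g Y = (MulAut.conj g).toMonoidHom '' Y :=
  Set.image_congr fun _ _ => by simp

theorem closure_cjs (g : G) (Y : Set G) : closure (cjs g Y) = (closure Y).map (MulAut.conj g).toMonoidHom := by
  rw [closure_map, cjs_eq]

theorem RR_cjs (g : G) (Y : Set G) : RR (cjs g Y) = (RR Y).map (MulAut.conj g).toMonoidHom := by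
  rw [RR_map, cjs_eq]

theorem mem_RR_cjs {g k : G} {Y : Set G} : k ∈ RR (cjs g Y) ↔ g⁻¹ * k * g ∈ RR Y := by
  rw [RR_cjs]
  exact ⟨by rintro ⟨z, hz, rfl⟩; simpa [mul_assoc] using hz, fun h => ⟨_, h, by simp [mul_assoc]⟩⟩

theorem mem_EE {k : G} {Y : Set G} : k ∈ EE Y ↔ k ∈ RR Y ∧ k ∈ centralizer Y := Iff.rfl

theorem mem_EE_cjs {g k : G} {Y : Set G} : k ∈ EE (cjs g Y) ↔ g⁻¹ * k * g ∈ EE Y := by
  rw [mem_EE, mem_EE, mem_RR_cjs, mem_cen_cjs]

theorem RR_mono {Y Y' : Set G} (h : Y ⊆ Y') : RR Y ≤ RR Y' := commutator_mono (closure_mono h) (closure_mono h)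

theorem RR_le_closure (Y : Set G) : RR Y ≤ closure Y := commutator_le_self _

theorem RR_le_commutator (Y : Set G) : RR Y ≤ commutator G := commutator_mono le_top le_top

theorem RR_le_of_subset {Y : Set G} {K : Subgroup G} (h : Y ⊆ K) : RR Y ≤ ⁅K, K⁆ :=
  commutator_mono ((closure_le _).2 h) ((closure_le _).2 h)

theorem EE_le_RR (Y : Set G) : EE Y ≤ RR Y := inf_le_left

theorem EE_le_cen (Y : Set G) : EE Y ≤ centralizer Y := inf_le_right

theorem nrm_le_nrm_RR (Y : Set G) : normalizer Y ≤ normalizer (RR Y : Set G) := fun g hg => by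
  rw [mem_set_normalizer_iff'']
  intro k
  rw [SetLike.mem_coe, SetLike.mem_coe, ← mem_RR_cjs, mem_nrm_iff.1 hg]

theorem nrm_le_nrm_EE (Y : Set G) : normalizer Y ≤ normalizer (EE Y : Set G) := fun g hg => by
  rw [mem_set_normalizer_iff'']
  intro k
  rw [SetLike.mem_coe, SetLike.mem_coe, ← mem_EE_cjs, mem_nrm_iff.1 hg]

theorem nrm_le_nrm_cen (Y : Set G) : normalizer Y ≤ normalizer (centralizer Y : Set G) := fun g hg => by
  rw [mem_set_normalizer_iff'']
  intro k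
  rw [SetLike.mem_coe, SetLike.mem_coe, ← mem_cen_cjs, mem_nrm_iff.1 hg]

theorem cen_le_nrm (Y : Set G) : centralizer Y ≤ normalizer Y := fun g hg => by
  rw [mem_nrm_iff]
  have : ∀ y ∈ Y, g * y * g⁻¹ = y := fun y hy => by rw [← mem_centralizer_iff.1 hg y hy, mul_inv_cancel_right]
  exact (Set.image_congr this).trans (Set.image_id' Y)

theorem center_le_nrm (Y : Set G) : center G ≤ normalizer Y := (center_le_centralizer Y).trans (cen_le_nrm Y)

/-- `EE Y` centralises `RR Y` -/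
theorem EE_comm {Y : Set G} {e ρ : G} (he : e ∈ EE Y) (hρ : ρ ∈ RR Y) : ρ * e = e * ρ := by
  have := he.2
  rw [← centralizer_closure] at this
  exact mem_centralizer_iff.1 this _ (RR_le_closure Y hρ)

theorem mem_Fx {D : Set G} {t y : G} : y ∈ Fx D t ↔ y ∈ D ∧ y * t = t * y := by
  rw [Fx, Set.mem_inter_iff, SetLike.mem_coe, mem_centralizer_singleton_iff]

end CL.FS
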