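/-
Linear F-sets: good subspaces.  `R = RR Y` is special with centre `E = EE Y = C_R(x)`, and `Y = x^R`.
-/
import Cfsg.Agent.PERM.FS.Defs
import Cfsg.Agent.PLOC.FpfTrans
import Cfsg.Agent.SIG.HHSA
import Cfsg.Agent.SOLV.CoprimeGen

set_option autoImplicit false

namespace CL.FS

open Subgroup CL.MSS
open scoped commutatorElement

variable {G : Type*} [Group G] {p r : ℕ} {D Y : Set G}

theorem IsF.cop (h : IsF p r D) : p.Coprime r := (Nat.coprime_primes h.pp h.rp).2 h.ne.symm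

theorem IsF.pow_eq (h : IsF p r D) {x : G} (hx : x ∈ D) : x ^ p = 1 := h.ord x hx ▸ pow_orderOf_eq_one x

theorem IsF.eq_one (h : IsF p r D) {Q : Subgroup G} (hQ : IsPGroup r Q) {g : G} (hg : g ∈ Q) (hp : g ^ p = 1) : g = 1 := by
  obtain ⟨k, hk⟩ := isPGroup_iff_forall_mem.1 hQ g hg
  have := pow_gcd_eq_one.2 ⟨hp, hk⟩
  rwa [(h.cop.pow_right k).gcd_eq_one, pow_one] at this

/-- distinct points do not commute -/
theorem IsF.eq_of_comm (h : IsF p r D) {x y : G} (hx : x ∈ D) (hy : y ∈ D) (hc : x * y = y * x) : x = y := by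
  have hc' : Commute x⁻¹ y := (show Commute x y from hc).inv_left
  have := h.eq_one (h.pg x hx y hy) (h.mem x hx y hy) (by rw [hc'.mul_pow, inv_pow, h.pow_eq hx, h.pow_eq hy]; simp)
  exact inv_mul_eq_one.1 this

theorem exists_of_mem_sup_zpowers {Q : Subgroup G} {x g : G} (hx : x ∈ normalizer (Q : Set G)) (hg : g ∈ Q ⊔ zpowers x) :
    ∃ k ∈ Q, ∃ i : ℤ, g = k * x ^ i := by
  obtain ⟨k, hk, _, ⟨i, rfl⟩, rfl⟩ := (mem_sup_of_normalizes_left (zpowers_le.2 hx)).1 hg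
  exact ⟨k, hk, i, rfl⟩

theorem comm_sup_zpowers_le {Q : Subgroup G} {x : G} (hx : x ∈ normalizer (Q : Set G)) :
    ⁅Q ⊔ zpowers x, Q ⊔ zpowers x⁆ ≤ Q := by
  refine commutator_le.2 fun a ha b hb => ?_
  obtain ⟨k, hk, i, rfl⟩ := exists_of_mem_sup_zpowers hx ha
  obtain ⟨l, hl, j, rfl⟩ := exists_of_mem_sup_zpowers hx hb
  have e : ⁅k * x ^ i, l * x ^ j⁆ = k * (x ^ i * l * (x ^ i)⁻¹) * (x ^ j * k⁻¹ * (x ^ j)⁻¹) * l⁻¹ := by
    rw [commutatorElement_def]; group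
  rw [e]
  exact mul_mem (mul_mem (mul_mem hk (conj_mem_of_nrm (zpow_mem hx i) hl)) (conj_mem_of_nrm (zpow_mem hx j) (inv_mem hk)))
    (inv_mem hl)

/-- a subgroup normalised by `Y` that contains all `x⁻¹ y` contains `RR Y` -/
theorem RR_le_of_inv_mul {K : Subgroup G} (hK : closure Y ≤ normalizer (K : Set G))
    (hm : ∀ x ∈ Y, ∀ y ∈ Y, x⁻¹ * y ∈ K) : RR Y ≤ K := by
  rcases Y.eq_empty_or_nonempty with rfl | ⟨x, hx⟩
  · simp [RR]
  have hxK := hK (subset_closure hx)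
  refine (RR_le_of_subset (K := K ⊔ zpowers x) fun y hy => ?_).trans (comm_sup_zpowers_le hxK)
  have : y = x * (x⁻¹ * y) := by group
  rw [this]
  exact mul_mem (mem_sup_right (mem_zpowers x)) (mem_sup_left (hm x hx y hy))

/-- the line through `x` and `u x u⁻¹` has its group in every `x`-invariant subgroup containing `u` -/
theorem RR_pair_le {U : Subgroup G} {x u : G} (hx : x ∈ normalizer (U : Set G)) (hu : u ∈ U) :
    RR {x, u * x * u⁻¹} ≤ U := by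
  refine (RR_le_of_subset (K := U ⊔ zpowers x) ?_).trans (comm_sup_zpowers_le hx)
  have h1 : x ∈ U ⊔ zpowers x := mem_sup_right (mem_zpowers x)
  rintro _ (rfl | rfl)
  · exact h1
  · exact mul_mem (mul_mem (mem_sup_left hu) h1) (inv_mem (mem_sup_left hu))

theorem comm_of_le {A B : Subgroup G} (hB : IsMulCommutative B) (h : A ≤ B) : IsMulCommutative A :=
  ⟨⟨fun a b => Subtype.ext (congrArg Subtype.val (hB.is_comm.comm (⟨a, h a.2⟩ : B) ⟨b, h b.2⟩) :)⟩⟩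

/-- a point centralises every abelian subgroup it normalises -/
theorem IsF.cen_of_ab (h : IsF p r D) (hn : NA D) {x : G} (hx : x ∈ D) {B : Subgroup G} (hB : IsMulCommutative B)
    (hxB : x ∈ normalizer (B : Set G)) : x ∈ centralizer (B : Set G) := by
  refine mem_centralizer_iff.2 fun b hb => ?_
  have := hn x hx _ (h.conj x hx b) (comm_of_le hB (RR_pair_le hxB hb))
  rw [eq_mul_inv_iff_mul_eq] at this
  exact this.symm

theorem IsF.cjs_eq (h : IsF p r D) (g : G) : cjs g D = D := by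
  ext y
  rw [mem_cjs]
  exact ⟨fun hy => by simpa [mul_assoc] using h.conj _ hy g, fun hy => by simpa using h.conj _ hy g⁻¹⟩

theorem IsF.inv_mul_mem (h : IsF p r D) (hY : Y ⊆ D) {x y : G} (hx : x ∈ Y) (hy : y ∈ Y) : x⁻¹ * y ∈ RR Y :=
  RR_mono (Set.pair_subset hx hy) (h.mem x (hY hx) y (hY hy))

theorem sub_inter {K : Subgroup G} (hK : IsPGroup r (RR (D ∩ K))) : Sub r D (D ∩ K) :=
  ⟨Set.inter_subset_left, hK, fun _ hy hc => ⟨hy, (closure_le K).2 Set.inter_subset_right hc⟩⟩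

theorem Sub.inter {Y' : Set G} (hY : Sub r D Y) (hY' : Sub r D Y') : Sub r D (Y ∩ Y') :=
  ⟨Set.inter_subset_left.trans hY.sub, hY.pg.to_le (RR_mono Set.inter_subset_left), fun y hy hc =>
    ⟨hY.cl y hy (closure_mono Set.inter_subset_left hc), hY'.cl y hy (closure_mono Set.inter_subset_right hc)⟩⟩

theorem Sub.cj (h : IsF p r D) (hY : Sub r D Y) (g : G) : Sub r D (cjs g Y) := by
  refine ⟨(cjs_mono g hY.sub).trans (h.cjs_eq g).subset, RR_cjs g Y ▸ hY.pg.map _, fun y hy hc => mem_cjs.2 ?_⟩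
  rw [closure_cjs, mem_cj] at hc
  exact hY.cl _ (by simpa using h.conj y hy g⁻¹) hc

theorem Sub.closure_le_nrm (h : IsF p r D) (hY : Sub r D Y) : closure Y ≤ normalizer Y := by
  have key : ∀ g ∈ closure Y, ∀ y ∈ Y, g * y * g⁻¹ ∈ Y := fun g hg y hy =>
    hY.cl _ (h.conj y (hY.sub hy) g) (mul_mem (mul_mem hg (subset_closure hy)) (inv_mem hg))
  exact fun g hg n => ⟨key g hg n, fun hn => by simpa [mul_assoc] using key _ (inv_mem hg) _ hn⟩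

theorem Sub.RR_le_nrm (h : IsF p r D) (hY : Sub r D Y) : RR Y ≤ normalizer Y :=
  (RR_le_closure Y).trans (hY.closure_le_nrm h)

theorem Sub.mem_nrm (h : IsF p r D) (hY : Sub r D Y) {x : G} (hx : x ∈ Y) : x ∈ normalizer Y :=
  hY.closure_le_nrm h (subset_closure hx)

theorem Sub.mem_nrm_RR (h : IsF p r D) (hY : Sub r D Y) {x : G} (hx : x ∈ Y) : x ∈ normalizer (RR Y : Set G) :=
  nrm_le_nrm_RR Y (hY.mem_nrm h hx)

theorem Sub.conj_mem (h : IsF p r D) (hY : Sub r D Y) {x ρ : G} (hx : x ∈ Y) (hρ : ρ ∈ RR Y) : ρ * x * ρ⁻¹ ∈ Y :=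
  conj_mem_of_nrm (hY.RR_le_nrm h hρ) hx

/-- an `r`-group `Q` normalised by a point `x` gives the subspace `D ∩ Q⟨x⟩` -/
theorem IsF.sub_of_inv (h : IsF p r D) {x : G} (hx : x ∈ D) {Q : Subgroup G} (hQ : IsPGroup r Q)
    (hxQ : x ∈ normalizer (Q : Set G)) :
    Sub r D (D ∩ (Q ⊔ zpowers x : Subgroup G)) ∧ RR (D ∩ (Q ⊔ zpowers x : Subgroup G)) ≤ Q := by
  have := (RR_le_of_subset (Set.inter_subset_right (s := D))).trans (comm_sup_zpowers_le hxQ)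
  exact ⟨sub_inter (hQ.to_le this), this⟩

theorem IsF.sub_line (h : IsF p r D) {x y : G} (hx : x ∈ D) (hy : y ∈ D) :
    Sub r D (D ∩ (closure {x, y} : Subgroup G)) ∧ RR (D ∩ (closure {x, y} : Subgroup G)) = RR {x, y} := by
  have : RR (D ∩ (closure {x, y} : Subgroup G)) = RR {x, y} := le_antisymm (RR_le_of_subset Set.inter_subset_right)
    (RR_mono (Set.subset_inter (Set.pair_subset hx hy) subset_closure))
  exact ⟨sub_inter (this ▸ h.pg x hx y hy), this⟩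

theorem Sub.closure_le (h : IsF p r D) (hY : Sub r D Y) {x : G} (hx : x ∈ Y) : closure Y ≤ RR Y ⊔ zpowers x := by
  refine (Subgroup.closure_le _).2 fun y hy => ?_
  have : y = x * (x⁻¹ * y) := by group
  rw [this]
  exact mul_mem (mem_sup_right (mem_zpowers x)) (mem_sup_left (h.inv_mul_mem hY.sub hx hy))

theorem EE_mul_conj {e ρ x : G} (he : e ∈ EE Y) (hx : x ∈ Y) : ρ * e * x * (ρ * e)⁻¹ = ρ * x * ρ⁻¹ := by
  have := mem_centralizer_iff.1 he.2 x hx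
  calc ρ * e * x * (ρ * e)⁻¹ = ρ * (e * x) * e⁻¹ * ρ⁻¹ := by group
    _ = _ := by rw [← this]; group

/-- conjugation action on a set -/
@[reducible] def cact {Q : Subgroup G} (hQ : Q ≤ normalizer Y) : MulAction Q Y where
  smul q y := ⟨q * y * (q : G)⁻¹, conj_mem_of_nrm (hQ q.2) y.2⟩
  one_smul y := Subtype.ext (by change (1 : G) * y * (1 : G)⁻¹ = y; simp)
  mul_smul a b y := Subtype.ext (by
    change (a : G) * b * y * ((a : G) * b)⁻¹ = a * (b * y * (b : G)⁻¹) * (a : G)⁻¹; group)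

variable [Finite G]

theorem Sub.exists_conj (h : IsF p r D) (hY : Sub r D Y) {x y : G} (hx : x ∈ Y) (hy : y ∈ Y) :
    ∃ ρ ∈ RR Y, ρ * x * ρ⁻¹ = y := by
  haveI := Fact.mk h.pp
  have hs : ∀ z ∈ Y, SylIn p (zpowers z) (closure Y) := fun z hz => by
    refine ⟨zpowers_le.2 (subset_closure hz), isPGroup_zpowers (k := 1) (by simpa using h.pow_eq (hY.sub hz)),
      fun Q hQ h1 h2 => le_antisymm (fun q hq => ?_) h1⟩
    obtain ⟨k, hk, i, rfl⟩ := exists_of_mem_sup_zpowers (hY.mem_nrm_RR h hz) (hY.closure_le h hz (h2 hq))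
    have hkQ : k ∈ Q := by simpa using mul_mem hq (inv_mem (h1 (zpow_mem_zpowers z i)))
    obtain ⟨a, ha⟩ := isPGroup_iff_forall_mem.1 hQ k hkQ
    obtain ⟨b, hb⟩ := isPGroup_iff_forall_mem.1 hY.pg k hk
    have := pow_gcd_eq_one.2 ⟨ha, hb⟩
    rw [(h.cop.pow a b).gcd_eq_one, pow_one] at this
    rw [this, one_mul]; exact zpow_mem_zpowers z i
  obtain ⟨g, hg, e⟩ := (hs x hx).exists_conj (hs y hy)
  obtain ⟨k, hk, i, rfl⟩ := exists_of_mem_sup_zpowers (hY.mem_nrm_RR h hx) (hY.closure_le h hx hg)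
  refine ⟨k, hk, h.eq_of_comm (h.conj x (hY.sub hx) k) (hY.sub hy) ?_⟩
  have h1 : k * x * k⁻¹ ∈ zpowers y := by
    rw [← e, cj_zpowers]
    have : k * x ^ i * x * (k * x ^ i)⁻¹ = k * x * k⁻¹ := by group
    rw [this]; exact mem_zpowers _
  obtain ⟨j, hj⟩ := h1
  rw [← hj]; exact (Commute.zpow_self y j)

/-- two points are conjugate by an element of their line group -/
theorem IsF.exists_conj (h : IsF p r D) {x y : G} (hx : x ∈ D) (hy : y ∈ D) : ∃ ρ ∈ RR {x, y}, ρ * x * ρ⁻¹ = y := by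
  obtain ⟨h1, h2⟩ := h.sub_line hx hy
  exact h2 ▸ h1.exists_conj h ⟨hx, subset_closure (by simp)⟩ ⟨hy, subset_closure (by simp)⟩

theorem Sub.RR_eq (h : IsF p r D) (hY : Sub r D Y) {x : G} (hx : x ∈ Y) : ⁅RR Y, zpowers x⁆ = RR Y := by
  refine le_antisymm (commutator_le_left_of_normalizes (zpowers_le.2 (hY.mem_nrm_RR h hx)))
    (RR_le_of_inv_mul ((hY.closure_le h hx).trans (sup_le (normalizer_commutator_ge_left _ _)
      (normalizer_commutator_ge_right _ _))) fun y hy z hz => ?_)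
  have key : ∀ w ∈ Y, x⁻¹ * w ∈ ⁅RR Y, zpowers x⁆ := fun w hw => by
    obtain ⟨ρ, hρ, rfl⟩ := hY.exists_conj h hx hw
    rw [commutator_comm]
    simpa [commutatorElement_def, mul_assoc] using commutator_mem_commutator (inv_mem (mem_zpowers x)) hρ
  simpa [mul_assoc] using mul_mem (inv_mem (key y hy)) (key z hz)

theorem Sub.special (h : IsF p r D) (hn : NA D) (hY : Sub r D Y) {x : G} (hx : x ∈ Y) :
    (∀ e ∈ RR Y, e ^ r ∈ centralizer (RR Y : Set G)) ∧ ⁅RR Y, RR Y⁆ = RR Y ⊓ centralizer (RR Y : Set G) ∧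
      ∀ e ∈ RR Y, e ∈ centralizer (RR Y : Set G) ↔ Commute x e := by
  haveI := Fact.mk h.rp
  exact CL.FpfT.special_of_abelian hY.pg (hY.mem_nrm_RR h hx) (h.ord x (hY.sub hx) ▸ h.cop) (hY.RR_eq h hx)
    fun B _ h1 h2 => h.cen_of_ab hn (hY.sub hx) h2 h1

theorem Sub.mem_EE_iff (h : IsF p r D) (hn : NA D) (hY : Sub r D Y) {x ρ : G} (hx : x ∈ Y) (hρ : ρ ∈ RR Y) :
    ρ ∈ EE Y ↔ ρ * x = x * ρ := by
  refine ⟨fun he => (mem_centralizer_iff.1 he.2 x hx).symm, fun he => ⟨hρ, mem_centralizer_iff.2 fun y hy => ?_⟩⟩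
  have h1 := ((hY.special h hn hx).2.2 ρ hρ).2 he.symm
  exact ((hY.special h hn hy).2.2 ρ hρ).1 h1

theorem Sub.EE_eq (h : IsF p r D) (hn : NA D) (hY : Sub r D Y) : EE Y = RR Y ⊓ centralizer (RR Y : Set G) := by
  refine le_antisymm (fun e he => ⟨he.1, mem_centralizer_iff.2 fun ρ hρ => EE_comm he hρ⟩)
    fun e he => ⟨he.1, mem_centralizer_iff.2 fun y hy => ((hY.special h hn hy).2.2 e he.1).1 he.2⟩

theorem Sub.comm_RR (h : IsF p r D) (hn : NA D) (hY : Sub r D Y) : ⁅RR Y, RR Y⁆ = EE Y := by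
  rcases Y.eq_empty_or_nonempty with rfl | ⟨x, hx⟩
  · simp [EE, RR]
  rw [hY.EE_eq h hn, (hY.special h hn hx).2.1]

theorem Sub.comm_mem (h : IsF p r D) (hn : NA D) (hY : Sub r D Y) {ρ σ : G} (hρ : ρ ∈ RR Y) (hσ : σ ∈ RR Y) :
    ⁅ρ, σ⁆ ∈ EE Y := hY.comm_RR h hn ▸ commutator_mem_commutator hρ hσ

theorem Sub.pow_mem (h : IsF p r D) (hn : NA D) (hY : Sub r D Y) {ρ : G} (hρ : ρ ∈ RR Y) : ρ ^ r ∈ EE Y := by
  rcases Y.eq_empty_or_nonempty with rfl | ⟨x, hx⟩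
  · exact ⟨Subgroup.pow_mem _ hρ r, by simp [mem_centralizer_iff]⟩
  rw [hY.EE_eq h hn]
  exact ⟨Subgroup.pow_mem _ hρ r, (hY.special h hn hx).1 ρ hρ⟩

omit [Finite G] in
theorem comm_pow_left {a b : G} (h : ⁅a, b⁆ * a = a * ⁅a, b⁆) (n : ℕ) : ⁅a ^ n, b⁆ = ⁅a, b⁆ ^ n := by
  induction n with
  | zero => simp
  | succ n ih =>
    have h1 : Commute ⁅a, b⁆ a := h
    calc ⁅a ^ (n + 1), b⁆ = a * ⁅a ^ n, b⁆ * a⁻¹ * ⁅a, b⁆ := by simp only [commutatorElement_def]; group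
      _ = ⁅a, b⁆ ^ n * ⁅a, b⁆ := by rw [ih, ← (h1.pow_left n).eq, mul_inv_cancel_right]
      _ = _ := (pow_succ _ _).symm

theorem Sub.pow_EE (h : IsF p r D) (hn : NA D) (hY : Sub r D Y) {e : G} (he : e ∈ EE Y) : e ^ r = 1 := by
  have key : ∀ e ∈ ⁅RR Y, RR Y⁆, e ^ r = 1 := by
    intro e he
    rw [Subgroup.commutator_def] at he
    have hm : ∀ g ∈ closure {g | ∃ g₁ ∈ RR Y, ∃ g₂ ∈ RR Y, ⁅g₁, g₂⁆ = g}, g ∈ EE Y := fun g hg =>
      hY.comm_RR h hn ▸ hg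
    induction he using closure_induction with
    | mem _ hx =>
      obtain ⟨a, ha, b, hb, rfl⟩ := hx
      rw [← comm_pow_left (EE_comm (hY.comm_mem h hn ha hb) ha).symm, commutatorElement_eq_one_iff_mul_comm]
      exact (EE_comm (hY.pow_mem h hn ha) hb).symm
    | one => simp
    | mul a b ha hb h1 h2 =>
      have : Commute a b := EE_comm (hm b hb) (hm a ha).1
      rw [this.mul_pow, h1, h2, mul_one]
    | inv a _ h1 => rw [inv_pow, h1, inv_one]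
  exact key e (hY.comm_RR h hn ▸ he)

/-- for `r = 2` the involutions of `RR Y` lie in `EE Y` -/
theorem Sub.sq (h : IsF p 2 D) (hn : NA D) (hq : SQ 2 D) (hY : Sub 2 D Y) {ρ : G} (hρ : ρ ∈ RR Y) (h2 : ρ * ρ = 1) :
    ρ ∈ EE Y := by
  rcases Y.eq_empty_or_nonempty with rfl | ⟨x, hx⟩
  · exact ⟨hρ, by simp [mem_centralizer_iff]⟩
  have hy := hY.conj_mem h hx hρ
  obtain ⟨σ, hσ, e⟩ := h.exists_conj (hY.sub hx) (hY.sub hy)
  have hσ' : σ ∈ RR Y := RR_mono (Set.pair_subset hx hy) hσ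
  have h3 : ρ⁻¹ * σ ∈ EE Y := (hY.mem_EE_iff h hn hx (mul_mem (inv_mem hρ) hσ')).2 (by
    calc ρ⁻¹ * σ * x = ρ⁻¹ * (σ * x * σ⁻¹) * σ := by group
      _ = _ := by rw [e]; group)
  have h4 : σ * σ = 1 := by
    have h5 := hY.pow_EE h hn h3
    have h6 := EE_comm h3 hρ
    calc σ * σ = ρ * ((ρ⁻¹ * σ) * ρ) * (ρ⁻¹ * σ) := by group
      _ = ρ * ρ * (ρ⁻¹ * σ) ^ 2 := by rw [← h6, pow_two]; group
      _ = 1 := by rw [h2, h5, mul_one]
  have h7 := (hY.mem_EE_iff h hn hx hσ').2 (hq rfl x (hY.sub hx) _ (hY.sub hy) σ hσ h4)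
  simpa using mul_mem h7 (inv_mem h3)

/-- an `s`-group, `s ≠ r`, normalising a non-empty subspace fixes a point -/
theorem Sub.fix1 (h : IsF p r D) (hY : Sub r D Y) (hne : Y.Nonempty) {s : ℕ} (hs : s.Prime) (hsr : s ≠ r)
    {Q : Subgroup G} (hQ : IsPGroup s Q) (hQY : Q ≤ normalizer Y) : ∃ x ∈ Y, Q ≤ centralizer {x} := by
  haveI := Fact.mk h.rp
  haveI := Fact.mk hs
  obtain ⟨x, hx⟩ := hne
  have hc : ∃ n, Nat.card Y = r ^ n := by
    letI := cact (hY.RR_le_nrm h)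
    obtain ⟨n, hn⟩ := hY.pg.card_orbit (⟨x, hx⟩ : Y)
    refine ⟨n, hn ▸ ?_⟩
    have : MulAction.orbit (RR Y) (⟨x, hx⟩ : Y) = Set.univ := Set.eq_univ_of_forall fun y => by
      obtain ⟨ρ, hρ, e⟩ := hY.exists_conj h hx y.2
      exact ⟨⟨ρ, hρ⟩, Subtype.ext e⟩
    rw [this, Nat.card_univ]
  obtain ⟨n, hn⟩ := hc
  letI := cact hQY
  obtain ⟨y, hy⟩ := hQ.nonempty_fixed_point_of_prime_not_dvd_card Y (by
    rw [hn]; exact fun hd => hsr ((Nat.prime_dvd_prime_iff_eq hs h.rp).1 (hs.dvd_of_dvd_pow hd)))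
  refine ⟨y, y.2, fun q hq => mem_centralizer_singleton_iff.2 ?_⟩
  have : q * y * q⁻¹ = y := congrArg Subtype.val (hy ⟨q, hq⟩)
  rw [mul_inv_eq_iff_eq_mul] at this
  exact this

theorem Sub.RR_not_le (h : IsF p r D) (hY : Sub r D Y) (hne : Y.Nontrivial) : ¬ RR Y ≤ EE Y := fun hle => by
  obtain ⟨x, hx, y, hy, hxy⟩ := hne
  obtain ⟨ρ, hρ, rfl⟩ := hY.exists_conj h hx hy
  exact hxy (by simpa using (EE_mul_conj (ρ := 1) (hle hρ) hx).symm)

omit [Finite G] in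
/-- `g` fixes `ρ x ρ⁻¹` if it fixes `x` and `⁅ρ, g⁆ ∈ EE Y` -/
theorem comm_conj_of_EE {x ρ g : G} (hx : x ∈ Y) (hρ : ρ ∈ RR Y) (hg : g * x = x * g) (hc : ⁅ρ, g⁆ ∈ EE Y) :
    g * (ρ * x * ρ⁻¹) = ρ * x * ρ⁻¹ * g := by
  have h1 := mem_centralizer_iff.1 hc.2 x hx
  have h2 := EE_comm hc hρ
  have h3 : g * ρ = ⁅ρ, g⁆⁻¹ * ρ * g := by rw [commutatorElement_def]; group
  have h4 : Commute ⁅ρ, g⁆ (ρ * x * ρ⁻¹) :=
    ((show Commute ⁅ρ, g⁆ ρ from h2.symm).mul_right (show Commute ⁅ρ, g⁆ x from h1.symm)).mul_right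
      (show Commute ⁅ρ, g⁆ ρ from h2.symm).inv_right
  calc g * (ρ * x * ρ⁻¹) = (g * ρ) * x * (g * ρ)⁻¹ * g := by group
    _ = ⁅ρ, g⁆⁻¹ * (ρ * (g * x * g⁻¹) * ρ⁻¹) * ⁅ρ, g⁆ * g := by rw [h3]; group
    _ = _ := by rw [hg, mul_inv_cancel_right, mul_assoc ⁅ρ, g⁆⁻¹, ← h4.eq, inv_mul_cancel_left]

/-- an `r`-group normalising a subspace with at least two points and fixing a point fixes a second point -/
theorem Sub.fix2 (h : IsF p r D) (hY : Sub r D Y) (hne : Y.Nontrivial) {x : G} (hx : x ∈ Y)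
    {Q : Subgroup G} (hQ : IsPGroup r Q) (hQY : Q ≤ normalizer Y) (hQx : Q ≤ centralizer {x}) :
    ∃ y ∈ Y, y ≠ x ∧ Q ≤ centralizer {y} := by
  haveI := Fact.mk h.rp
  have hnl : ¬ RR Y ≤ centralizer {x} := fun hle => by
    obtain ⟨y, hy, hyx⟩ := hne.exists_ne x
    obtain ⟨ρ, hρ, rfl⟩ := hY.exists_conj h hx hy
    exact hyx (by rw [mem_centralizer_singleton_iff.1 (hle hρ), mul_inv_cancel_right])
  obtain ⟨ρ, hρ, h1, h2⟩ := CL.HHS.exists_not_mem_commutator_mem hQ hY.pg (hQY.trans (nrm_le_nrm_RR Y)) hnl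
  refine ⟨_, conj_mem_of_nrm (hY.RR_le_nrm h (inv_mem hρ)) hx, fun e => h1 (mem_centralizer_singleton_iff.2 ?_),
    fun g hg => mem_centralizer_singleton_iff.2 ?_⟩
  · calc ρ * x = ρ * (ρ⁻¹ * x * ρ⁻¹⁻¹) := by rw [e]
      _ = _ := by group
  · have h3 := mem_centralizer_singleton_iff.1 (h2 g hg)
    have h4 := mem_centralizer_singleton_iff.1 (hQx hg)
    have h5 : Commute (ρ * g * ρ⁻¹) x := by
      have : ρ * g * ρ⁻¹ = ⁅ρ, g⁆ * g := by rw [commutatorElement_def]; group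
      rw [this]; exact Commute.mul_left h3 h4
    calc g * (ρ⁻¹ * x * ρ⁻¹⁻¹) = ρ⁻¹ * (ρ * g * ρ⁻¹ * x) * ρ := by group
      _ = _ := by rw [h5.eq]; group

/-- the elements of `RR Y` centralised by `B` modulo a subgroup `W` with `RR Y' ≤ W` normal in `RR Y` -/
def fixMod (R W : Subgroup G) (B : Set G) (hW : R ≤ normalizer (W : Set G)) : Subgroup G where
  carrier := {ρ | ρ ∈ R ∧ ∀ b ∈ B, ⁅ρ, b⁆ ∈ W}
  one_mem' := ⟨one_mem _, fun b _ => by simp⟩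
  mul_mem' := fun {a c} ha hc => ⟨mul_mem ha.1 hc.1, fun b hb => by
    have : ⁅a * c, b⁆ = a * ⁅c, b⁆ * a⁻¹ * ⁅a, b⁆ := by simp only [commutatorElement_def]; group
    rw [this]; exact mul_mem (conj_mem_of_nrm (hW ha.1) (hc.2 b hb)) (ha.2 b hb)⟩
  inv_mem' := fun {a} ha => ⟨inv_mem ha.1, fun b hb => by
    have : ⁅a⁻¹, b⁆ = a⁻¹ * ⁅a, b⁆⁻¹ * a⁻¹⁻¹ := by simp only [commutatorElement_def]; group
    rw [this]; exact conj_mem_of_nrm (hW (inv_mem ha.1)) (inv_mem (ha.2 b hb))⟩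

omit [Finite G] in
theorem mem_fixMod {R W : Subgroup G} {B : Set G} {hW : R ≤ normalizer (W : Set G)} {ρ : G} :
    ρ ∈ fixMod R W B hW ↔ ρ ∈ R ∧ ∀ b ∈ B, ⁅ρ, b⁆ ∈ W := Iff.rfl

theorem mem_nrm_fixMod {R W : Subgroup G} {B : Set G} {hW : R ≤ normalizer (W : Set G)} {x : G}
    (h1 : x ∈ normalizer (R : Set G)) (h2 : x ∈ normalizer (W : Set G)) (h3 : ∀ b ∈ B, x * b = b * x) :
    x ∈ normalizer (fixMod R W B hW : Set G) := by
  refine mem_normalizer_of_cj_le (cj_le_iff_forall.2 fun ρ hρ => ⟨conj_mem_of_nrm h1 hρ.1, fun b hb => ?_⟩)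
  have : ⁅x * ρ * x⁻¹, b⁆ = x * ⁅ρ, b⁆ * x⁻¹ := by
    have e : b = x * b * x⁻¹ := by rw [h3 b hb, mul_inv_cancel_right]
    conv_lhs => rw [e]
    simp only [commutatorElement_def]; group
  rw [this]; exact conj_mem_of_nrm h2 (hρ.2 b hb)

theorem Sub.RR_le_nrm_EE (h : IsF p r D) (hY : Sub r D Y) : RR Y ≤ normalizer (EE Y : Set G) :=
  (hY.RR_le_nrm h).trans (nrm_le_nrm_EE Y)

/-- (K): an `r`-element fixing a point of `Y` and centralising `EE Y` centralises `Y` -/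
theorem Sub.cen_of_cen_EE (h : IsF p r D) (hn : NA D) (hY : Sub r D Y) {x k : G} (hx : x ∈ Y)
    (hk : IsPGroup r (zpowers k)) (hkY : k ∈ normalizer Y) (hkx : k * x = x * k)
    (hkE : k ∈ centralizer (EE Y : Set G)) : k ∈ centralizer Y := by
  haveI := Fact.mk h.rp
  set R₁ := fixMod (RR Y) (EE Y) {k} (hY.RR_le_nrm_EE h) with hR₁
  have hx₁ : x ∈ normalizer (R₁ : Set G) := mem_nrm_fixMod (hY.mem_nrm_RR h hx) (nrm_le_nrm_EE Y (hY.mem_nrm h hx))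
    (by rintro _ rfl; exact hkx.symm)
  have hle : RR Y ≤ R₁ := by
    by_contra hnl
    obtain ⟨ρ, hρ, h1, h2⟩ := CL.HHS.exists_not_mem_commutator_mem hk hY.pg (zpowers_le.2 (nrm_le_nrm_RR Y hkY)) hnl
    have hw := h2 k (mem_zpowers k)
    have h3 : ⁅ρ, k⁆ ∈ R₁ ⊓ centralizer (R₁ : Set G) := ⟨hw, mem_centralizer_iff.2 fun σ hσ => by
      have e1 := mem_centralizer_iff.1 hkE _ (hY.comm_mem h hn (inv_mem hρ) hσ.1)
      have he := hσ.2 k rfl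
      have e2 : k * σ * k⁻¹ = ⁅σ, k⁆⁻¹ * σ := by rw [commutatorElement_def]; group
      have e3 : k * ρ⁻¹ * k⁻¹ = ρ⁻¹ * ⁅ρ, k⁆ := by rw [commutatorElement_def]; group
      have e4 : ⁅ρ⁻¹, σ⁆ = ⁅ρ⁻¹ * ⁅ρ, k⁆, ⁅σ, k⁆⁻¹ * σ⁆ := by
        rw [← e2, ← e3]
        calc ⁅ρ⁻¹, σ⁆ = k * ⁅ρ⁻¹, σ⁆ * k⁻¹ := by rw [← e1, mul_inv_cancel_right]
          _ = _ := by simp only [commutatorElement_def]; group
      set w := ⁅ρ, k⁆
      set e := ⁅σ, k⁆
      have c1 : Commute e (ρ⁻¹ * w) := (EE_comm he (mul_mem (inv_mem hρ) hw.1)).symm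
      have c2 : Commute e σ := (EE_comm he hσ.1).symm
      have e5 : ⁅ρ⁻¹ * w, e⁻¹ * σ⁆ = ⁅ρ⁻¹ * w, σ⁆ := by
        calc ⁅ρ⁻¹ * w, e⁻¹ * σ⁆ = (ρ⁻¹ * w * e⁻¹) * σ * (ρ⁻¹ * w)⁻¹ * σ⁻¹ * e := by
              simp only [commutatorElement_def]; group
          _ = e⁻¹ * (⁅ρ⁻¹ * w, σ⁆ * e) := by rw [← c1.inv_left.eq]; simp only [commutatorElement_def]; group
          _ = _ := by
            rw [EE_comm he (hY.comm_mem h hn (mul_mem (inv_mem hρ) hw.1) hσ.1).1, inv_mul_cancel_left]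
      have e6 : ⁅ρ⁻¹ * w, σ⁆ = ρ⁻¹ * ⁅w, σ⁆ * ρ * ⁅ρ⁻¹, σ⁆ := by simp only [commutatorElement_def]; group
      rw [e5, e6, eq_comm, mul_eq_right] at e4
      have e7 : ⁅w, σ⁆ = 1 := by
        calc ⁅w, σ⁆ = ρ * (ρ⁻¹ * ⁅w, σ⁆ * ρ) * ρ⁻¹ := by group
          _ = 1 := by rw [e4]; group
      exact (commutatorElement_eq_one_iff_mul_comm.1 e7).symm⟩
    have h4 := h.cen_of_ab hn (hY.sub hx) (B := R₁ ⊓ centralizer (R₁ : Set G))
      ⟨⟨fun a b => Subtype.ext (b.2.2 a a.2.1)⟩⟩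
      (le_normalizer_inf (zpowers_le.2 hx₁) (le_normalizer_centralizer (zpowers_le.2 hx₁)) (mem_zpowers x))
    exact h1 ⟨hρ, by rintro _ rfl; exact (hY.mem_EE_iff h hn hx hw.1).2 (mem_centralizer_iff.1 h4 _ h3)⟩
  refine mem_centralizer_iff.2 fun y hy => ?_
  obtain ⟨ρ, hρ, rfl⟩ := hY.exists_conj h hx hy
  exact (comm_conj_of_EE hx hρ hkx ((hle hρ).2 k rfl)).symm

/-- an `r`-element `g` normalising `Y` is `ρ k` with `ρ ∈ RR Y` and `k` an `r`-element fixing the point `x` -/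
theorem Sub.dec (h : IsF p r D) (hY : Sub r D Y) {x g : G} (hx : x ∈ Y)
    (hg : IsPGroup r (zpowers g)) (hgY : g ∈ normalizer Y) :
    ∃ ρ ∈ RR Y, ∃ k, IsPGroup r (zpowers k) ∧ k ∈ normalizer Y ∧ k * x = x * k ∧ g = ρ * k := by
  obtain ⟨ρ, hρ, e⟩ := hY.exists_conj h hx (conj_mem_of_nrm hgY hx)
  refine ⟨ρ, hρ, ρ⁻¹ * g, ?_, mul_mem (inv_mem (hY.RR_le_nrm h hρ)) hgY, ?_, by group⟩
  · exact (isPGroup_sup_of_normalizes' hY.pg hg (zpowers_le.2 (nrm_le_nrm_RR Y hgY))).to_le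
      (zpowers_le.2 (mul_mem (mem_sup_left (inv_mem hρ)) (mem_sup_right (mem_zpowers g))))
  · calc ρ⁻¹ * g * x = ρ⁻¹ * (g * x * g⁻¹) * g := by group
      _ = _ := by rw [← e]; group

/-- (K'): an `r`-element normalising `Y` and centralising `EE Y` acts on `Y` like an element of `RR Y` -/
theorem Sub.dec_of_cen_EE (h : IsF p r D) (hn : NA D) (hY : Sub r D Y) (hne : Y.Nonempty) {g : G}
    (hg : IsPGroup r (zpowers g)) (hgY : g ∈ normalizer Y) (hgE : g ∈ centralizer (EE Y : Set G)) :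
    ∃ ρ ∈ RR Y, ∃ k ∈ centralizer Y, g = ρ * k := by
  obtain ⟨x, hx⟩ := hne
  obtain ⟨ρ, hρ, k, h1, h2, h3, rfl⟩ := hY.dec h hx hg hgY
  refine ⟨ρ, hρ, k, hY.cen_of_cen_EE h hn hx h1 h2 h3 ?_, rfl⟩
  have : ρ ∈ centralizer (EE Y : Set G) := mem_centralizer_iff.2 fun e he => (EE_comm he hρ).symm
  simpa using mul_mem (inv_mem this) hgE

/-- a subgroup `C ≤ RR Y` normalised by `x ∈ Y` lies in `K · EE Y` as soon as `K` contains `x` and its `C`-conjugates -/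
theorem Sub.le_sup (h : IsF p r D) (hn : NA D) (hY : Sub r D Y) {x : G} (hx : x ∈ Y) {C K : Subgroup G}
    (hC : C ≤ RR Y) (hxC : x ∈ normalizer (C : Set G)) (hK : ∀ c ∈ C, c * x * c⁻¹ ∈ K) :
    C ≤ (RR Y ⊓ K) ⊔ EE Y := by
  obtain ⟨h1, h2⟩ := h.sub_of_inv (hY.sub hx) (hY.pg.to_le hC) hxC
  have hxJ : x ∈ D ∩ (C ⊔ zpowers x : Subgroup G) := ⟨hY.sub hx, mem_sup_right (mem_zpowers x)⟩
  have h3 : D ∩ (C ⊔ zpowers x : Subgroup G) ⊆ K := fun y hy => by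
    obtain ⟨ρ, hρ, rfl⟩ := h1.exists_conj h hxJ hy
    exact hK ρ (h2 hρ)
  intro c hc
  obtain ⟨ρ, hρ, e⟩ := h1.exists_conj h hxJ (y := c * x * c⁻¹) ⟨h.conj x (hY.sub hx) c,
    mul_mem (mul_mem (mem_sup_left hc) hxJ.2) (inv_mem (mem_sup_left hc))⟩
  have h4 : ρ⁻¹ * c ∈ EE Y := (hY.mem_EE_iff h hn hx (mul_mem (inv_mem (hC (h2 hρ))) (hC hc))).2 (by
    calc ρ⁻¹ * c * x = ρ⁻¹ * (c * x * c⁻¹) * c := by group
      _ = _ := by rw [← e]; group)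
  have h5 : ρ ∈ RR Y ⊓ K := ⟨hC (h2 hρ), (Subgroup.closure_le K).2 h3 (RR_le_closure _ hρ)⟩
  simpa using mul_mem (mem_sup_left h5) (mem_sup_right h4)

/-- if `RR Y ≤ (RR Y ⊓ K) EE Y` and `x ∈ K` then `Y ⊆ K` -/
theorem Sub.subset_of_le_sup (h : IsF p r D) (hY : Sub r D Y) {x : G} (hx : x ∈ Y) {K : Subgroup G} (hxK : x ∈ K)
    (hle : RR Y ≤ (RR Y ⊓ K) ⊔ EE Y) : Y ⊆ K := fun y hy => by
  obtain ⟨ρ, hρ, rfl⟩ := hY.exists_conj h hx hy
  obtain ⟨a, ha, e, he, rfl⟩ := (mem_sup_of_normalizes_right (inf_le_left.trans (hY.RR_le_nrm_EE h))).1 (hle hρ)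
  rw [EE_mul_conj he hx]
  exact mul_mem (mul_mem ha.2 hxK) (inv_mem ha.2)

/-- (GEN): a non-cyclic abelian `r'`-group `B` fixing `x ∈ Y`: the fixed points of the elements of `B#` generate `Y` -/
theorem Sub.gen (h : IsF p r D) (hn : NA D) (hY : Sub r D Y) {x : G} (hx : x ∈ Y) {B K : Subgroup G}
    (hB : IsMulCommutative B) (hc : ¬ IsCyclic B) (hcop : (Nat.card B).Coprime r) (hBY : B ≤ normalizer Y)
    (hBx : B ≤ centralizer {x}) (hK : ∀ b ∈ B, b ≠ 1 → ∀ y ∈ Y, y * b = b * y → y ∈ K) : Y ⊆ K := by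
  haveI := Fact.mk h.rp
  obtain ⟨n, hn'⟩ := IsPGroup.iff_card.1 hY.pg
  obtain ⟨b₀, hb₀, hb₁⟩ : ∃ b ∈ B, b ≠ 1 := by
    by_contra hh
    push Not at hh
    exact hc (by rw [(eq_bot_iff_forall B).2 hh]; infer_instance)
  have hxb : ∀ b ∈ B, x * b = b * x := fun b hb => (mem_centralizer_singleton_iff.1 (hBx hb)).symm
  refine hY.subset_of_le_sup h hx (hK b₀ hb₀ hb₁ x hx (hxb b₀ hb₀)) ?_
  have := CL.coprime_iSup_centralizer_noncyclic B (RR Y) hc (hBY.trans (nrm_le_nrm_RR Y)) (hn' ▸ hcop.pow_right n)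
  refine this.ge.trans (iSup₂_le fun b hb => hY.le_sup h hn hx inf_le_left ?_ fun c hc => ?_)
  · refine le_normalizer_inf (zpowers_le.2 (hY.mem_nrm_RR h hx)) (zpowers_le.2 (le_normalizer ?_)) (mem_zpowers x)
    exact mem_centralizer_singleton_iff.2 (hxb b hb.1)
  · refine hK b hb.1 hb.2 _ (hY.conj_mem h hx hc.1) ?_
    have h1 : Commute c b := mem_centralizer_singleton_iff.1 hc.2
    exact ((h1.mul_left (hxb b hb.1)).mul_left h1.inv_left).eq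

end CL.FS
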