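/-
Linear F-sets with abelian lines.
-/
import Cfsg.Agent.PERM.FS.Basic
import Cfsg.Agent.S0055

set_option autoImplicit false

namespace CL.FS

open Subgroup
open scoped commutatorElement

variable {G : Type*} [Group G] [Finite G] {p r : ℕ} {D : Set G}

theorem IsF.ab1 (h : IsF p r D) (hab : AB D) {x y u ρ : G} (hx : x ∈ D) (hy : y ∈ D) (h1 : u ∈ zpowers x)
    (h2 : x ∈ zpowers u) (hρ : ρ ∈ RR {x, y}) : ∃ σ : G, σ * u * σ⁻¹ = ρ * u := by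
  obtain ⟨l1, l2⟩ := h.sub_line hx hy
  have mx : x ∈ D ∩ (closure {x, y} : Subgroup G) := ⟨hx, subset_closure (.inl rfl)⟩
  have nx := zpowers_le.2 (l2 ▸ l1.mem_nrm_RR h mx)
  have := hab x hx y hy
  have := Fact.mk h.rp
  obtain ⟨n, hn⟩ := (h.pg x hx y hy).exists_card_eq
  have e := (Cfsg.Agent.S0055.result (zpowers x) (RR {x, y}) nx
    (by rw [Nat.card_zpowers, h.ord x hx, hn]; exact h.cop.pow_right n)).1
  rw [show ⁅RR {x, y}, zpowers x⁆ = RR {x, y} from l2 ▸ l1.RR_eq h mx] at e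
  let f : RR {x, y} → RR {x, y} := fun σ => ⟨σ * (u * (σ : G)⁻¹ * u⁻¹), mul_mem σ.2 (conj_mem_of_nrm (nx h1) (inv_mem σ.2))⟩
  obtain ⟨σ, hσ⟩ := Finite.surjective_of_injective (f := f) (fun σ τ e' => by
    have m := mul_mem (inv_mem τ.2) σ.2
    have c : Commute u ((τ : G)⁻¹ * σ) := by
      have : (σ : G) * (u * (σ : G)⁻¹ * u⁻¹) = τ * (u * (τ : G)⁻¹ * u⁻¹) := congrArg Subtype.val e'
      calc u * ((τ : G)⁻¹ * σ) = (τ : G)⁻¹ * (τ * (u * (τ : G)⁻¹ * u⁻¹)) * u * σ := by group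
        _ = _ := by rw [← this]; group
    refine Subtype.ext (inv_mul_eq_one.1 (mem_bot.1 (e.le ⟨⟨m, fun a ha => ?_⟩, m⟩))).symm
    obtain ⟨i, rfl⟩ := zpowers_le.2 h2 ha
    exact c.zpow_left i) ⟨ρ, hρ⟩
  exact ⟨σ, by rw [← show _ = ρ from congrArg Subtype.val hσ]; simp only [f]; group⟩

theorem IsF.ab2 (h : IsF p r D) (hab : AB D) {a b c : G} (ha : a ∈ D) (hb : b ∈ D) (hc : c ∈ D) :
    ∃ v ∈ D, a * b⁻¹ * c⁻¹ = v⁻¹ := by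
  have n : ∀ x ∈ D, ∀ y ∈ D, x ∈ normalizer (RR {x, y} : Set G) := fun x hx y hy =>
    (h.sub_line hx hy).2 ▸ (h.sub_line hx hy).1.mem_nrm_RR h ⟨hx, subset_closure (.inl rfl)⟩
  obtain ⟨k, hk⟩ := h.pp.odd_of_ne_two h.p2
  obtain ⟨σ, e⟩ := h.ab1 hab hb hc (u := b⁻¹ * b⁻¹) (mul_mem (inv_mem (mem_zpowers b)) (inv_mem (mem_zpowers b)))
    ⟨k, by
      have := h.pow_eq hb
      rw [hk, pow_succ, mul_eq_one_iff_eq_inv'] at this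
      simp only [zpow_natCast, ← pow_two, ← pow_mul, inv_pow, ← this]⟩
    (conj_mem_of_nrm (inv_mem (n b hb c hc)) (inv_mem (h.mem b hb c hc)))
  have hw := h.conj b hb σ
  obtain ⟨τ, e'⟩ := h.ab1 hab hw ha (inv_mem (mem_zpowers _)) ⟨-1, by simp only [zpow_neg, zpow_one, inv_inv]⟩
    (conj_mem_of_nrm (n _ hw a ha) (h.mem _ hw a ha))
  refine ⟨_, h.conj _ hw τ, ?_⟩
  rw [conj_inv, e']
  calc _ = a * (b⁻¹ * (b⁻¹ * c)⁻¹ * b⁻¹⁻¹ * (b⁻¹ * b⁻¹)) := by group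
    _ = _ := by rw [← e]; group

/-- If all lines are abelian then `⟨D⟩'` is an `r`-group.

PROOF.  Fix `x, y ∈ D`, `L = ⟨x, y⟩`, `R = RR {x,y} = L'` abelian `r`-group, normalised by `x`; `y ∈ xR` so `L = R⟨x⟩`.
(1) For `i` prime to `p` and `ρ ∈ R`: `ρ x^i` is `R`-conjugate to `x^i`.  Indeed `L/[R,x]` is abelian (`R` abelian, `[R,x]` normal in
`L`, the images of `R` and `x` commute), so `R = L' = [R,⟨x⟩]`, so `C_R(x) = 1` (S0055), so `C_R(x^i) = 1` (`⟨x^i⟩ = ⟨x⟩`), so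
`σ ↦ σ x^i σ⁻¹ x^(-i)` is injective on the finite set `R`, hence onto.
(2) `a, b, c ∈ D ⇒ a b⁻¹ c⁻¹ ∈ D⁻¹`: `b⁻¹ c⁻¹ ∈ RR{b,c} · b^(-2)`, so by (1) `b⁻¹ c⁻¹ = w^(-2)` with `w = σ b σ⁻¹ ∈ D`;
`a w^(-2) ∈ RR{w,a} · w^(-1)` (as `w⁻¹ a ∈ RR{w,a}`, normal in `⟨w,a⟩`), so by (1) it is `v⁻¹` with `v ∈ D` (`p` is odd).
(3) Hence `S = {a⁻¹ b | a, b ∈ D} ∪ {1}` is a subgroup: `a⁻¹ b c⁻¹ d = (a⁻¹ (b c⁻¹ b⁻¹) b) d`, and `a⁻¹ c'⁻¹ b` is conjugate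
(by `b`) to `b a⁻¹ c'⁻¹ ∈ D⁻¹`.  Its elements are `r`-elements (`h.pg`, `h.mem`), it is normalised by `⟨D⟩`, and `⟨D⟩/S` is cyclic
(all elements of `D` have the same image), so `RR D ≤ S`.  (If `D = ∅`, `RR D = ⊥`.) -/
theorem IsF.ab (h : IsF p r D) (hab : AB D) : IsPGroup r (RR D) := by
  let S : Subgroup G :=
    { carrier := {g | g = 1 ∨ ∃ a ∈ D, ∃ b ∈ D, g = a⁻¹ * b}
      one_mem' := .inl rfl
      mul_mem' := by
        rintro _ _ (rfl | ⟨a, ha, b, hb, rfl⟩) hy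
        · rwa [one_mul]
        rcases hy with rfl | ⟨c, hc, d, hd, rfl⟩
        · exact .inr ⟨a, ha, b, hb, mul_one _⟩
        obtain ⟨v, hv, e⟩ := h.ab2 hab hb ha (h.conj c hc b)
        refine .inr ⟨_, h.conj v hv b⁻¹, d, hd, ?_⟩
        rw [conj_inv, ← e]; group
      inv_mem' := by
        rintro _ (rfl | ⟨a, ha, b, hb, rfl⟩)
        exacts [.inl inv_one, .inr ⟨b, hb, a, ha, by group⟩] }
  have : S.Normal := ⟨by
    rintro _ (rfl | ⟨a, ha, b, hb, rfl⟩) g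
    exacts [.inl (by group), .inr ⟨_, h.conj a ha g, _, h.conj b hb g, by group⟩]⟩
  refine IsPGroup.to_le (K := S) ?_ (RR_le_of_inv_mul (le_top.trans (normalizer_eq_top S).ge)
    fun x hx y hy => .inr ⟨x, hx, y, hy, rfl⟩)
  rintro ⟨_, rfl | ⟨a, ha, b, hb, rfl⟩⟩
  · exact ⟨0, Subtype.ext (one_pow _)⟩
  · obtain ⟨n, e⟩ := h.pg a ha b hb ⟨_, h.mem a ha b hb⟩
    exact ⟨n, Subtype.ext (congrArg Subtype.val e :)⟩

end CL.FS
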