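/-
Linear F-sets, minimal counterexample: blocks.
-/
import Cfsg.Agent.PERM.FS.Basic
import Cfsg.Agent.PERM.FS.AB

set_option autoImplicit false
set_option linter.unusedSectionVars false

namespace CL.FS

open Subgroup CL.MSS
open scoped commutatorElement

section

variable {G : Type*} [Group G] {p r : ℕ} {D : Set G}

theorem mem_nrm_RR_pair (x y : G) : x ∈ normalizer (RR {x, y} : Set G) :=
  le_normalizer_commutator le_normalizer le_normalizer (subset_closure (by simp))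

theorem nrm_center : normalizer (center G : Set G) = ⊤ := normalizer_eq_top _

theorem conj_of_center {z g : G} (hz : z ∈ center G) : g * z * g⁻¹ = z := by
  rw [mem_center_iff.1 hz g, mul_inv_cancel_right]

theorem IsF.nrm_le_nrm_inter (h : IsF p r D) (K : Subgroup G) : normalizer (K : Set G) ≤ normalizer (D ∩ K) := fun g hg => by
  rw [mem_nrm_iff, cjs_inter, h.cjs_eq, mem_nrm_iff.1 hg]

theorem IsF.cjs_inter_nrm (h : IsF p r D) (g : G) (P : Subgroup G) :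
    cjs g (D ∩ (normalizer (P : Set G) : Subgroup G)) = D ∩ (normalizer ((g •ᶜ P : Subgroup G) : Set G) : Subgroup G) := by
  rw [cjs_inter, h.cjs_eq, ← cj_normalizer]
  ext y
  simp only [Set.mem_inter_iff, mem_cjs, SetLike.mem_coe, mem_cj]

theorem IsF.map_center (h : IsF p r D) (hz : ∀ x ∈ D, x ∉ center G) :
    IsF p r (QuotientGroup.mk' (center G) '' D) := by
  haveI := Fact.mk h.pp
  refine ⟨h.pp, h.p2, h.rp, h.ne, ?_, ?_, ?_, ?_⟩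
  · rintro _ ⟨x, hx, rfl⟩
    exact orderOf_eq_prime (by rw [← map_pow, h.pow_eq hx, map_one])
      fun e => hz x hx ((QuotientGroup.eq_one_iff x).1 e)
  · rintro _ ⟨x, hx, rfl⟩ g
    obtain ⟨g, rfl⟩ := QuotientGroup.mk'_surjective _ g
    exact ⟨_, h.conj x hx g, by simp⟩
  · rintro _ ⟨x, hx, rfl⟩ _ ⟨y, hy, rfl⟩
    rw [← RR_pair_map]; exact (h.pg x hx y hy).map _
  · rintro _ ⟨x, hx, rfl⟩ _ ⟨y, hy, rfl⟩
    rw [← RR_pair_map, ← map_inv, ← map_mul]; exact mem_map_of_mem _ (h.mem x hx y hy)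

end

variable {G : Type*} [Group G] [Finite G] {p r : ℕ} {D Y Y' : Set G}

namespace St

variable (h : St p r D)
include h

omit [Finite G] in
theorem RR_top : RR D = commutator G := by rw [RR, h.gen]; rfl

/-- a normal `r`-subgroup is central -/
theorem le_center {Q : Subgroup G} (hQ : IsPGroup r Q) (hn : Q.Normal) : Q ≤ center G :=
  (h.nrm Q hn).resolve_right fun hle => h.bad (hQ.to_le hle)

theorem not_mem_center {x : G} (hx : x ∈ D) : x ∉ center G := fun hc =>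
  h.pp.one_lt.ne' (by rw [← h.ord x hx, h.eq_one h.zr hc (h.pow_eq hx), orderOf_one])

theorem nontrivial : D.Nontrivial := by
  by_contra hn
  apply h.bad
  rw [← h.RR_top]
  rcases (Set.not_nontrivial_iff.1 hn).eq_empty_or_singleton with e | ⟨x, e⟩
  · rw [e, RR, Subgroup.closure_empty, commutator_bot_left]; exact IsPGroup.of_bot
  · have hx : x ∈ D := e ▸ rfl
    have := h.pg x hx x hx
    rwa [Set.pair_eq_singleton, ← e] at this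

/-- `G = G'⟨x⟩` -/
theorem sup_eq {x : G} (hx : x ∈ D) : commutator G ⊔ zpowers x = ⊤ := by
  rw [eq_top_iff, ← h.gen, ← h.RR_top]
  refine (closure_le _).2 fun y hy => ?_
  have : y = x * (x⁻¹ * y) := by group
  rw [this]
  exact mul_mem (mem_sup_right (mem_zpowers x)) (mem_sup_left (h.inv_mul_mem subset_rfl hx hy))

/-- elements of order prime to `p` lie in `G'` -/
theorem mem_commutator {g : G} (hg : (orderOf g).Coprime p) : g ∈ commutator G := by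
  obtain ⟨x, hx⟩ := h.nontrivial.nonempty
  obtain ⟨k, hk, i, e⟩ := exists_of_mem_sup_zpowers (Q := commutator G) (x := x) (g := g)
    (by rw [normalizer_eq_top]; trivial) (by rw [h.sup_eq hx]; trivial)
  have h1 : QuotientGroup.mk' (commutator G) g ^ p = 1 := by
    have : QuotientGroup.mk' (commutator G) k = 1 := (QuotientGroup.eq_one_iff k).2 hk
    rw [e, map_mul, this, one_mul, map_zpow, ← zpow_natCast, ← zpow_mul, mul_comm, zpow_mul, zpow_natCast, ← map_pow,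
      h.pow_eq hx, map_one, one_zpow]
  have h2 : QuotientGroup.mk' (commutator G) g ^ orderOf g = 1 := by rw [← map_pow, pow_orderOf_eq_one, map_one]
  have := pow_gcd_eq_one.2 ⟨h2, h1⟩
  rw [hg.gcd_eq_one, pow_one] at this
  exact (QuotientGroup.eq_one_iff g).1 this

theorem sub_inter {K : Subgroup G} (hK : K ≠ ⊤) : Sub r D (D ∩ K) :=
  _root_.CL.FS.sub_inter (h.prop _ Set.inter_subset_left fun e =>
    hK (eq_top_iff.2 (e.ge.trans ((closure_le K).2 Set.inter_subset_right))))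

theorem sub_Fx {t : G} (ht : t ∉ center G) : Sub r D (Fx D t) :=
  h.sub_inter fun e => ht (mem_center_iff.2 fun g => mem_centralizer_singleton_iff.1 (e.ge (mem_top g)))

theorem closure_ne (hY : Sub r D Y) : closure Y ≠ ⊤ := fun e => h.bad (by
  have := hY.pg
  rwa [RR, e] at this)

theorem sub_of_blk (hY : Blk D Y) : Sub r D Y := by
  have h1 := h.sub_inter hY.ne
  have := hY.max _ h1.sub (Set.subset_inter hY.sub subset_closure) (h.closure_ne h1)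
  rwa [this] at h1

theorem exists_blk (hD : Y ⊆ D) (hne : closure Y ≠ ⊤) : ∃ Y', Blk D Y' ∧ Y ⊆ Y' := by
  obtain ⟨Y', h1, h2⟩ := Finite.exists_le_maximal (p := fun Y' : Set G => Y' ⊆ D ∧ closure Y' ≠ ⊤) ⟨hD, hne⟩
  exact ⟨Y', ⟨h2.1.1, h2.1.2, fun Y'' a b c => (h2.eq_of_le ⟨a, c⟩ b).symm⟩, h1⟩

theorem exists_blk_pair {x y : G} (hx : x ∈ D) (hy : y ∈ D) : ∃ Y, Blk D Y ∧ x ∈ Y ∧ y ∈ Y := by
  obtain ⟨Y, h1, h2⟩ := h.exists_blk (Set.pair_subset hx hy) fun e => h.bad (by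
    have := h.pg x hx y hy
    rwa [RR, e] at this)
  exact ⟨Y, h1, h2 (by simp), h2 (by simp)⟩

/-- through every point of a block there is a second block -/
theorem exists_blk_ne (hY : Blk D Y) {x : G} (hx : x ∈ D) : ∃ Y', Blk D Y' ∧ x ∈ Y' ∧ Y' ≠ Y := by
  obtain ⟨y, hy, hyY⟩ : ∃ y ∈ D, y ∉ Y := by
    by_contra hh
    push Not at hh
    exact hY.ne (eq_top_iff.2 (h.gen.ge.trans (closure_mono hh)))
  obtain ⟨Y', h1, h2, h3⟩ := h.exists_blk_pair hx hy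
  exact ⟨Y', h1, h2, fun e => hyY (e ▸ h3)⟩

theorem blk_cj (hY : Blk D Y) (g : G) : Blk D (cjs g Y) := by
  have key : ∀ (g : G) (Y : Set G), closure Y ≠ ⊤ → closure (cjs g Y) ≠ ⊤ := fun g Y hY e => by
    rw [closure_cjs, cj_eq_top_iff] at e; exact hY e
  refine ⟨(cjs_mono g hY.sub).trans (h.cjs_eq g).subset, key g Y hY.ne, fun Y' h1 h2 h3 => ?_⟩
  have := hY.max (cjs g⁻¹ Y') ((cjs_mono _ h1).trans (h.cjs_eq _).subset)
    ((cjs_inv_cjs g Y).superset.trans (cjs_mono _ h2)) (key _ _ h3)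
  rw [← this, cjs_cjs_inv]

theorem eq_of_subset (hY : Blk D Y) (hY' : Blk D Y') (hs : Y ⊆ Y') : Y = Y' := (hY.max Y' hY'.sub hs hY'.ne).symm

theorem nrm_ne (hD : Y ⊆ D) (hne : Y.Nonempty) (hY : closure Y ≠ ⊤) : normalizer Y ≠ ⊤ := fun e => by
  obtain ⟨x, hx⟩ := hne
  refine hY (eq_top_iff.2 (h.gen.ge.trans (closure_mono fun y hy => ?_)))
  obtain ⟨ρ, -, rfl⟩ := h.exists_conj (hD hx) hy
  exact conj_mem_of_nrm (e.ge (mem_top ρ)) hx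

/-- a non-central element centralising a block fixes exactly its points -/
theorem Fx_eq (hY : Blk D Y) {c : G} (hc : c ∈ centralizer Y) (hz : c ∉ center G) : Fx D c = Y :=
  hY.max _ Set.inter_subset_left (fun y hy => mem_Fx.2 ⟨hY.sub hy, mem_centralizer_iff.1 hc y hy⟩)
    (h.closure_ne (h.sub_Fx hz))

theorem nrm_of_comm (hY : Blk D Y) {c g : G} (hc : c ∈ centralizer Y) (hz : c ∉ center G) (hg : ⁅g, c⁆ ∈ center G) :
    g ∈ normalizer Y := by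
  have h1 : c ∈ centralizer (cjs g⁻¹ Y) := by
    rw [mem_cen_cjs]
    have : g⁻¹⁻¹ * c * g⁻¹ = ⁅g, c⁆ * c := by rw [commutatorElement_def]; group
    rw [this]; exact mul_mem (center_le_centralizer _ hg) hc
  have := (h.Fx_eq (h.blk_cj hY g⁻¹) h1 hz).symm.trans (h.Fx_eq hY hc hz)
  simpa using inv_mem (mem_nrm_iff.2 this)

theorem mem_center_of_cen (hY : Blk D Y) (hY' : Blk D Y') (hne : Y ≠ Y') {c : G} (hc : c ∈ centralizer Y)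
    (hc' : c ∈ centralizer Y') : c ∈ center G := by
  by_contra hz
  exact hne ((h.Fx_eq hY hc hz).symm.trans (h.Fx_eq hY' hc' hz))

theorem RR_pair_not_le {x y : G} (hx : x ∈ D) (hy : y ∈ D) (hxy : x ≠ y) : ¬ RR {x, y} ≤ center G := fun hle => by
  obtain ⟨ρ, hρ, e⟩ := h.exists_conj hx hy
  exact hxy (by rw [← e, ← mem_center_iff.1 (hle hρ), mul_inv_cancel_right])

theorem nrm_ne_top {Q : Subgroup G} (hQ : IsPGroup r Q) (hz : ¬ Q ≤ center G) : normalizer (Q : Set G) ≠ ⊤ :=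
  fun e => hz (h.le_center hQ (normalizer_eq_top_iff.1 e))

theorem exists_max {x : G} (hx : x ∈ D) {Q : Subgroup G} (hQ : IsPGroup r Q) (hxQ : x ∈ normalizer (Q : Set G)) :
    ∃ P : Subgroup G, Q ≤ P ∧ SylIn r P ⊤ ∧ x ∈ normalizer (P : Set G) ∧ normalizer (P : Set G) ≠ ⊤ ∧
      RR (D ∩ (normalizer (P : Set G) : Subgroup G)) ≤ P := by
  haveI := Fact.mk h.rp
  obtain ⟨P, h1, h2⟩ := Finite.exists_le_maximal
    (p := fun P : Subgroup G => IsPGroup r P ∧ x ∈ normalizer (P : Set G)) ⟨hQ, hxQ⟩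
  have key : ∀ R : Subgroup G, IsPGroup r R → x ∈ normalizer (R : Set G) → R ≤ normalizer (P : Set G) → R ≤ P :=
    fun R a b c => le_sup_right.trans (h2.le_of_ge ⟨isPGroup_sup_of_normalizes' h2.1.1 a c,
      le_normalizer_sup (zpowers_le.2 h2.1.2) (zpowers_le.2 b) (mem_zpowers x)⟩ le_sup_left)
  have hN : normalizer (P : Set G) ≠ ⊤ := fun e => by
    obtain ⟨y, hy, hyx⟩ := h.nontrivial.exists_ne x
    exact h.RR_pair_not_le hx hy hyx.symm ((key _ (h.pg x hx y hy) (mem_nrm_RR_pair x y) (e ▸ le_top)).trans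
      (h.le_center h2.1.1 (normalizer_eq_top_iff.1 e)))
  have hJ := h.sub_inter hN
  have hxJ : x ∈ D ∩ (normalizer (P : Set G) : Subgroup G) := ⟨hx, h2.1.2⟩
  have hR := key _ hJ.pg (hJ.mem_nrm_RR h.toIsF hxJ)
    ((RR_le_closure _).trans ((closure_le _).2 Set.inter_subset_right))
  refine ⟨P, h1, SylIn.of_normalizer ⟨le_inf le_top le_normalizer, h2.1.1, fun S a b c => le_antisymm ?_ b⟩, h2.1.2, hN, hR⟩
  refine key S a ?_ (c.trans inf_le_right)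
  have : x⁻¹ ∈ normalizer (S : Set G) := mem_normalizer_of_cj_le (cj_le_iff_forall.2 fun s hs => by
    have h3 := b (hR (h.inv_mul_mem hJ.sub hxJ
      (conj_mem_of_nrm (h.nrm_le_nrm_inter _ (le_normalizer (c hs).2)) hxJ)))
    have e : x⁻¹ * s * x⁻¹⁻¹ = x⁻¹ * (s * x * s⁻¹) * s := by group
    rw [e]; exact mul_mem h3 hs)
  simpa using inv_mem this

theorem blk_nontrivial (hY : Blk D Y) : Y.Nontrivial := by
  by_contra hn
  have hs := Set.not_nontrivial_iff.1 hn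
  obtain ⟨x, hx, h1⟩ : ∃ x ∈ D, Y ⊆ {x} := by
    rcases hs.eq_empty_or_singleton with e | ⟨x, e⟩
    · obtain ⟨x, hx⟩ := h.nontrivial.nonempty
      exact ⟨x, hx, e ▸ Set.empty_subset _⟩
    · exact ⟨x, hY.sub (e ▸ rfl), e.subset⟩
  obtain ⟨y, hy, hyx⟩ := h.nontrivial.exists_ne x
  obtain ⟨Y', h2, h3, h4⟩ := h.exists_blk_pair hx hy
  have := h.eq_of_subset hY h2 (h1.trans (Set.singleton_subset_iff.2 h3))
  exact hyx (hs (this ▸ h4) (this ▸ h3))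

theorem blk_eq_syl (hY : Blk D Y) :
    ∃ P : Subgroup G, SylIn r P ⊤ ∧ RR Y ≤ P ∧ Y = D ∩ (normalizer (P : Set G) : Subgroup G) := by
  obtain ⟨x, hx⟩ := (h.blk_nontrivial hY).nonempty
  have hS := h.sub_of_blk hY
  obtain ⟨P, h1, h2, h3, h4, -⟩ := h.exists_max (hY.sub hx) hS.pg (hS.mem_nrm_RR h.toIsF hx)
  refine ⟨P, h2, h1, (hY.max _ Set.inter_subset_left (fun y hy => ⟨hY.sub hy, ?_⟩) (h.closure_ne (h.sub_inter h4))).symm⟩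
  obtain ⟨ρ, hρ, rfl⟩ := hS.exists_conj h.toIsF hx hy
  have := le_normalizer (h1 hρ)
  exact mul_mem (mul_mem this h3) (inv_mem this)

theorem blk_of_syl {P : Subgroup G} (hP : SylIn r P ⊤) : Blk D (D ∩ (normalizer (P : Set G) : Subgroup G)) := by
  haveI := Fact.mk h.rp
  obtain ⟨x, hx⟩ := h.nontrivial.nonempty
  obtain ⟨Y, hY, -⟩ := h.exists_blk_pair hx hx
  obtain ⟨P₀, h1, -, h2⟩ := h.blk_eq_syl hY
  obtain ⟨g, -, rfl⟩ := h1.exists_conj hP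
  rw [← h.cjs_inter_nrm, ← h2]; exact h.blk_cj hY g

/-- (B3): an `r`-group normalised by a point `x` lies in a Sylow `r`-subgroup `P` normalised by `x`, and `D ∩ N(P)` is a block -/
theorem syl {x : G} (hx : x ∈ D) {Q : Subgroup G} (hQ : IsPGroup r Q) (hxQ : x ∈ normalizer (Q : Set G)) :
    ∃ (P : Subgroup G) (Y : Set G), SylIn r P ⊤ ∧ Blk D Y ∧ x ∈ Y ∧ Q ≤ P ∧ P ≤ normalizer Y ∧ RR Y ≤ P ∧
      Y = D ∩ (normalizer (P : Set G) : Subgroup G) := by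
  obtain ⟨P, h1, h2, h3, -, h4⟩ := h.exists_max hx hQ hxQ
  exact ⟨P, _, h2, h.blk_of_syl h2, ⟨hx, h3⟩, h1, (le_normalizer.trans le_normalizer).trans (h.nrm_le_nrm_inter _), h4, rfl⟩

/-- an `r`-group normalising a block lies in a Sylow `r`-subgroup of `G` normalising it -/
theorem syl_blk (hY : Blk D Y) {Q : Subgroup G} (hQ : IsPGroup r Q) (hQY : Q ≤ normalizer Y) :
    ∃ P : Subgroup G, SylIn r P ⊤ ∧ Q ≤ P ∧ P ≤ normalizer Y ∧ RR Y ≤ P := by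
  haveI := Fact.mk h.rp
  obtain ⟨P, h1, h2, h3⟩ := h.blk_eq_syl hY
  have h4 : P ≤ normalizer Y := h3 ▸ (le_normalizer.trans le_normalizer).trans (h.nrm_le_nrm_inter _)
  obtain ⟨g, hg, h5⟩ := (h1.of_le h4 le_top).exists_le_conj hQ hQY
  refine ⟨g •ᶜ P, h1.cj_of_mem (mem_top g), h5, cj_le_of_mem h4 hg, ?_⟩
  rw [← cj_eq_of_mem_normalizer (nrm_le_nrm_RR Y hg)]; exact cj_mono g h2

/-- flag transitivity -/
theorem conj_flag (hY : Blk D Y) (hY' : Blk D Y') {x x' : G} (hx : x ∈ Y) (hx' : x' ∈ Y') :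
    ∃ g : G, g * x * g⁻¹ = x' ∧ cjs g Y = Y' := by
  haveI := Fact.mk h.rp
  obtain ⟨P, h1, -, h2⟩ := h.blk_eq_syl hY
  obtain ⟨P', h3, -, h4⟩ := h.blk_eq_syl hY'
  obtain ⟨g, -, e⟩ := h1.exists_conj h3
  have h5 : cjs g Y = Y' := by rw [h2, h.cjs_inter_nrm, e, ← h4]
  have hS := h.sub_of_blk hY'
  obtain ⟨ρ, hρ, e'⟩ := hS.exists_conj h.toIsF (h5 ▸ conj_mem_cjs.2 hx : g * x * g⁻¹ ∈ Y') hx'
  exact ⟨ρ * g, by rw [← e']; group, by rw [cjs_mul, h5, mem_nrm_iff.1 (hS.RR_le_nrm h.toIsF hρ)]⟩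

/-- (B5) -/
theorem EE_not_le (hY : Blk D Y) : ¬ EE Y ≤ center G := fun hle => by
  have key : ∀ Y', Blk D Y' → EE Y' ≤ center G := fun Y' hY' e he => by
    obtain ⟨x, hx⟩ := (h.blk_nontrivial hY).nonempty
    obtain ⟨x', hx'⟩ := (h.blk_nontrivial hY').nonempty
    obtain ⟨g, -, rfl⟩ := h.conj_flag hY hY' hx hx'
    have := hle (mem_EE_cjs.1 he)
    have e1 : e = g * (g⁻¹ * e * g) * g⁻¹ := by group
    rw [e1, conj_of_center this]; exact this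
  have h1 := (h.map_center fun x hx => h.not_mem_center hx).ab (by
    rintro _ ⟨x, hx, rfl⟩ _ ⟨y, hy, rfl⟩
    obtain ⟨Y', h2, h3, h4⟩ := h.exists_blk_pair hx hy
    rw [← RR_pair_map]
    refine ⟨⟨?_⟩⟩
    rintro ⟨_, a, ha, rfl⟩ ⟨_, b, hb, rfl⟩
    have h5 := RR_mono (Set.pair_subset h3 h4)
    have := key Y' h2 ((h.sub_of_blk h2).comm_mem h.toIsF h.na (h5 ha) (h5 hb))
    refine Subtype.ext (commutatorElement_eq_one_iff_mul_comm.1 ?_)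
    change ⁅QuotientGroup.mk' _ a, QuotientGroup.mk' _ b⁆ = 1
    rw [← map_commutatorElement]; exact (QuotientGroup.eq_one_iff _).2 this)
  rw [← RR_map, h.RR_top] at h1
  exact h.bad ((h1.comap_of_ker_isPGroup _ (by rw [QuotientGroup.ker_mk']; exact h.zr)).to_le (le_comap_map _ _))

/-- a commutator of the intersection of two distinct blocks is central -/
theorem comm_inter {Y₁ Y₂ : Set G} (h₁ : Blk D Y₁) (h₂ : Blk D Y₂) (hne : Y₁ ≠ Y₂) {a b : G} (ha : a ∈ RR (Y₁ ∩ Y₂))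
    (hb : b ∈ RR (Y₁ ∩ Y₂)) : ⁅a, b⁆ ∈ center G :=
  h.mem_center_of_cen h₁ h₂ hne
    ((h.sub_of_blk h₁).comm_mem h.toIsF h.na (RR_mono Set.inter_subset_left ha) (RR_mono Set.inter_subset_left hb)).2
    ((h.sub_of_blk h₂).comm_mem h.toIsF h.na (RR_mono Set.inter_subset_right ha) (RR_mono Set.inter_subset_right hb)).2

/-- symmetry of bad pairs -/
theorem bad_symm (hY : Blk D Y) (hY' : Blk D Y') {e : G} (he : e ∈ EE Y') (heY : e ∈ normalizer Y) (hz : e ∉ center G) :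
    ∃ f ∈ EE Y, f ∈ normalizer Y' ∧ f ∉ center G := by
  haveI := Fact.mk h.rp
  obtain ⟨f, h1, h2, h3⟩ := CL.HHS.exists_not_mem_commutator_mem
    ((h.sub_of_blk hY').pg.to_le (zpowers_le.2 he.1)) ((h.sub_of_blk hY).pg.to_le (EE_le_RR Y))
    (zpowers_le.2 (nrm_le_nrm_EE Y heY)) (h.EE_not_le hY)
  exact ⟨f, h1, h.nrm_of_comm hY' he.2 hz (h3 e (mem_zpowers e)), h2⟩

end St

/-- the `r`-group attached to a pair of blocks -/
def Astar (Y₁ Y₂ : Set G) : Subgroup G :=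
  RR (Y₁ ∩ Y₂) ⊔ (EE Y₁ ⊓ normalizer Y₂) ⊔ (EE Y₂ ⊓ normalizer Y₁) ⊔ center G

theorem Astar_comm (Y₁ Y₂ : Set G) : Astar Y₁ Y₂ = Astar Y₂ Y₁ := by
  rw [Astar, Astar, Set.inter_comm, sup_right_comm (RR _)]

theorem mem_Astar₁ {Y₁ Y₂ : Set G} {a : G} (ha : a ∈ RR (Y₁ ∩ Y₂)) : a ∈ Astar Y₁ Y₂ :=
  mem_sup_left (mem_sup_left (mem_sup_left ha))

theorem mem_Astar₂ {Y₁ Y₂ : Set G} {a : G} (ha : a ∈ EE Y₁) (ha' : a ∈ normalizer Y₂) : a ∈ Astar Y₁ Y₂ :=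
  mem_sup_left (mem_sup_left (mem_sup_right ⟨ha, ha'⟩))

theorem mem_Astar₃ {Y₁ Y₂ : Set G} {a : G} (ha : a ∈ EE Y₂) (ha' : a ∈ normalizer Y₁) : a ∈ Astar Y₁ Y₂ :=
  mem_sup_left (mem_sup_right ⟨ha, ha'⟩)

theorem mem_nrm_Astar {Y₁ Y₂ : Set G} {g : G} (h1 : ∀ a ∈ RR (Y₁ ∩ Y₂), g * a * g⁻¹ ∈ Astar Y₁ Y₂)
    (h2 : ∀ a ∈ EE Y₁, a ∈ normalizer Y₂ → g * a * g⁻¹ ∈ Astar Y₁ Y₂)
    (h3 : ∀ a ∈ EE Y₂, a ∈ normalizer Y₁ → g * a * g⁻¹ ∈ Astar Y₁ Y₂) : g ∈ normalizer (Astar Y₁ Y₂ : Set G) := by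
  refine mem_normalizer_of_cj_le (cj_le_iff.2 (sup_le (sup_le (sup_le ?_ ?_) ?_) ?_)) <;>
    refine cj_le_iff.1 (cj_le_iff_forall.2 fun a ha => ?_)
  exacts [h1 a ha, h2 a ha.1 ha.2, h3 a ha.1 ha.2, by rw [conj_of_center ha]; exact mem_sup_right ha]

namespace St

variable (h : St p r D)
include h

theorem pg_Astar {Y₁ Y₂ : Set G} (h₁ : Blk D Y₁) (h₂ : Blk D Y₂) : IsPGroup r (Astar Y₁ Y₂) := by
  have h1 : IsPGroup r (RR Y₁ ⊔ (EE Y₂ ⊓ normalizer Y₁) : Subgroup G) := isPGroup_sup_of_normalizes' (h.sub_of_blk h₁).pg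
    ((h.sub_of_blk h₂).pg.to_le (inf_le_left.trans (EE_le_RR _))) (inf_le_right.trans (nrm_le_nrm_RR _))
  refine (h1.to_sup_of_normal_right h.zr).to_le (sup_le_sup_right (sup_le_sup_right (sup_le ?_ ?_) _) _)
  exacts [RR_mono Set.inter_subset_left, inf_le_left.trans (EE_le_RR _)]

theorem mem_nrm_Astar_pt {Y₁ Y₂ : Set G} (h₁ : Blk D Y₁) (h₂ : Blk D Y₂) {x : G} (hx₁ : x ∈ Y₁) (hx₂ : x ∈ Y₂) :
    x ∈ normalizer (Astar Y₁ Y₂ : Set G) := by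
  have hI := (h.sub_of_blk h₁).inter (h.sub_of_blk h₂)
  refine mem_nrm_Astar (fun a ha => mem_Astar₁ (conj_mem_of_nrm (hI.mem_nrm_RR h.toIsF ⟨hx₁, hx₂⟩) ha))
    (fun a ha ha' => ?_) fun a ha ha' => ?_
  · rw [mem_centralizer_iff.1 ha.2 x hx₁, mul_inv_cancel_right]; exact mem_Astar₂ ha ha'
  · rw [mem_centralizer_iff.1 ha.2 x hx₂, mul_inv_cancel_right]; exact mem_Astar₃ ha ha'

theorem f5_step {Y₁ Y₂ : Set G} (h₁ : Blk D Y₁) (h₂ : Blk D Y₂) (hne : Y₁ ≠ Y₂) {x : G} (hx₁ : x ∈ Y₁) (hx₂ : x ∈ Y₂)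
    {e₂ : G} (he : e₂ ∈ EE Y₂) (heY : e₂ ∈ normalizer Y₁) (hz : e₂ ∉ center G) :
    ∃ y ∈ Y₁, y ∉ Y₂ ∧ y ∈ normalizer (Astar Y₁ Y₂ : Set G) := by
  haveI := Fact.mk h.rp
  have hF := h.toIsF
  have S₁ := h.sub_of_blk h₁
  have S₂ := h.sub_of_blk h₂
  have hI := S₁.inter S₂
  have hxI : x ∈ Y₁ ∩ Y₂ := ⟨hx₁, hx₂⟩
  have r₁ : RR (Y₁ ∩ Y₂) ≤ RR Y₁ := RR_mono Set.inter_subset_left
  have r₂ : RR (Y₁ ∩ Y₂) ≤ RR Y₂ := RR_mono Set.inter_subset_right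
  set U := RR (Y₁ ∩ Y₂) ⊔ EE Y₁ with hU
  have hUR : U ≤ RR Y₁ := sup_le r₁ (EE_le_RR _)
  have hdec : ∀ u ∈ U, ∃ a ∈ RR (Y₁ ∩ Y₂), ∃ e ∈ EE Y₁, a * e = u := fun u hu =>
    (mem_sup_of_normalizes_right (r₁.trans (S₁.RR_le_nrm_EE hF))).1 hu
  have hRU : RR Y₁ ≤ normalizer (U : Set G) := le_normalizer_of_cj_le fun ρ hρ => cj_le_iff_forall.2 fun u hu => by
    have : ρ * u * ρ⁻¹ = ⁅ρ, u⁆ * u := by rw [commutatorElement_def]; group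
    rw [this]; exact mul_mem (mem_sup_right (S₁.comm_mem hF h.na hρ (hUR hu))) hu
  have hnl : ¬ RR Y₁ ≤ U := fun hle => hne (h.eq_of_subset h₁ h₂ fun y hy => by
    obtain ⟨ρ, hρ, rfl⟩ := S₁.exists_conj hF hx₁ hy
    obtain ⟨a, ha, e, he, rfl⟩ := hdec ρ (hle hρ)
    rw [EE_mul_conj he hx₁]
    exact S₂.conj_mem hF hx₂ (r₂ ha))
  set B := EE Y₂ ⊓ normalizer Y₁ with hB
  set W := fixMod (RR Y₁) U B hRU with hW
  obtain ⟨ρ, hρ, hρU, hρB⟩ := CL.HHS.exists_not_mem_commutator_mem (P := B)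
    (S₂.pg.to_le (inf_le_left.trans (EE_le_RR _))) S₁.pg (inf_le_right.trans (nrm_le_nrm_RR _)) hnl
  have hρW : ρ ∈ W := ⟨hρ, hρB⟩
  have hxB : ∀ b ∈ B, x * b = b * x := fun b hb => mem_centralizer_iff.1 hb.1.2 x hx₂
  have hxW : x ∈ normalizer (W : Set G) := mem_nrm_fixMod (S₁.mem_nrm_RR hF hx₁)
    (le_normalizer_sup (zpowers_le.2 (hI.mem_nrm_RR hF hxI)) (zpowers_le.2 (nrm_le_nrm_EE _ (S₁.mem_nrm hF hx₁)))
      (mem_zpowers x)) hxB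
  -- `[W, R_I] ≤ E₁*`
  have hWI : ∀ σ ∈ W, ∀ a ∈ RR (Y₁ ∩ Y₂), σ * a * σ⁻¹ ∈ Astar Y₁ Y₂ := fun σ hσ a ha => by
    have c1 := S₁.comm_mem hF h.na hσ.1 (r₁ ha)
    have : σ * a * σ⁻¹ = ⁅σ, a⁆ * a := by rw [commutatorElement_def]; group
    rw [this]
    refine mul_mem (mem_Astar₂ c1 (h.nrm_of_comm h₂ he.2 hz ?_)) (mem_Astar₁ ha)
    obtain ⟨b, hb, e, he', hu⟩ := hdec _ (inv_mem (hσ.2 e₂ ⟨he, heY⟩))
    have c2 : e₂ * σ * e₂⁻¹ = b * (e * σ) := by rw [← mul_assoc, hu, commutatorElement_def]; group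
    have c3 : e₂ * a * e₂⁻¹ = a := by rw [← EE_comm he (r₂ ha), mul_inv_cancel_right]
    have c4 : ⁅e * σ, a⁆ = ⁅σ, a⁆ := by
      calc ⁅e * σ, a⁆ = e * (σ * a * σ⁻¹) * e⁻¹ * a⁻¹ := by rw [commutatorElement_def]; group
        _ = _ := by
          rw [← EE_comm he' (mul_mem (mul_mem hσ.1 (r₁ ha)) (inv_mem hσ.1)), mul_inv_cancel_right, commutatorElement_def]
    have c5 : e₂ * ⁅σ, a⁆ * e₂⁻¹ = ⁅σ, a⁆ * ⁅b, a⁆ := by
      calc e₂ * ⁅σ, a⁆ * e₂⁻¹ = ⁅e₂ * σ * e₂⁻¹, e₂ * a * e₂⁻¹⁆ := by simp only [commutatorElement_def]; group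
        _ = b * ⁅e * σ, a⁆ * b⁻¹ * ⁅b, a⁆ := by rw [c2, c3]; simp only [commutatorElement_def]; group
        _ = _ := by rw [c4, EE_comm c1 (r₁ hb), mul_inv_cancel_right]
    have c6 := h.comm_inter h₁ h₂ hne hb ha
    have c7 : ⁅⁅σ, a⁆, e₂⁆ = ⁅σ, a⁆ * ⁅b, a⁆⁻¹ * ⁅σ, a⁆⁻¹ := by
      calc ⁅⁅σ, a⁆, e₂⁆ = ⁅σ, a⁆ * (e₂ * ⁅σ, a⁆ * e₂⁻¹)⁻¹ := by rw [commutatorElement_def ⁅σ, a⁆]; group
        _ = _ := by rw [c5, mul_inv_rev, mul_assoc]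
    rw [c7, conj_of_center (inv_mem c6)]; exact inv_mem c6
  set w := x⁻¹ * ρ * x * ρ⁻¹ with hw
  have hwW : w ∈ W := mul_mem (by simpa using conj_mem_of_nrm (inv_mem hxW) hρW) (inv_mem hρW)
  have hwN : w⁻¹ ∈ normalizer (Astar Y₁ Y₂ : Set G) := by
    refine mem_nrm_Astar (hWI _ (inv_mem hwW)) (fun a ha ha' => ?_) fun f hf hf' => ?_
    · rw [EE_comm ha (inv_mem hwW.1), mul_inv_cancel_right]; exact mem_Astar₂ ha ha'
    · obtain ⟨a, ha, e, he', hu⟩ := hdec _ (hρB f ⟨hf, hf'⟩)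
      have c1 : f * ρ * f⁻¹ = e⁻¹ * a⁻¹ * ρ := by rw [← mul_inv_rev, hu, commutatorElement_def]; group
      have c2 : f * x * f⁻¹ = x := by rw [← hxB f ⟨hf, hf'⟩, mul_inv_cancel_right]
      have c3 : x⁻¹ * e⁻¹ * x = e⁻¹ := by
        rw [mul_assoc, ← mem_centralizer_iff.1 (inv_mem he'.2) x hx₁, inv_mul_cancel_left]
      have ha' : x⁻¹ * a⁻¹ * x ∈ RR (Y₁ ∩ Y₂) := by
        simpa using conj_mem_of_nrm (inv_mem (hI.mem_nrm_RR hF hxI)) (inv_mem ha)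
      have c4 : f * w * f⁻¹ = x⁻¹ * a⁻¹ * x * w * a := by
        calc f * w * f⁻¹ = (f * x * f⁻¹)⁻¹ * (f * ρ * f⁻¹) * (f * x * f⁻¹) * (f * ρ * f⁻¹)⁻¹ := by rw [hw]; group
          _ = (x⁻¹ * e⁻¹ * x) * ((x⁻¹ * a⁻¹ * x * w * a) * e) := by rw [c1, c2, hw]; group
          _ = _ := by rw [c3, EE_comm he' (mul_mem (mul_mem (r₁ ha') hwW.1) (r₁ ha)), inv_mul_cancel_left]
      have c5 : w⁻¹ * f * w⁻¹⁻¹ = w⁻¹ * (x⁻¹ * a⁻¹ * x) * w⁻¹⁻¹ * a * f := by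
        calc w⁻¹ * f * w⁻¹⁻¹ = w⁻¹ * (f * w * f⁻¹) * f := by group
          _ = _ := by rw [c4]; group
      rw [c5]
      exact mul_mem (mul_mem (hWI _ (inv_mem hwW) _ ha') (mem_Astar₁ ha)) (mem_Astar₃ hf hf')
  refine ⟨ρ * x * ρ⁻¹, S₁.conj_mem hF hx₁ hρ, fun hy => hρU ?_, ?_⟩
  · obtain ⟨a, ha, e⟩ := hI.exists_conj hF hxI (y := ρ * x * ρ⁻¹) ⟨S₁.conj_mem hF hx₁ hρ, hy⟩
    have h4 : a⁻¹ * ρ ∈ EE Y₁ := (S₁.mem_EE_iff hF h.na hx₁ (mul_mem (inv_mem (r₁ ha)) hρ)).2 (by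
      calc a⁻¹ * ρ * x = a⁻¹ * (ρ * x * ρ⁻¹) * ρ := by group
        _ = _ := by rw [← e]; group)
    simpa using mul_mem (mem_sup_left ha : a ∈ U) (mem_sup_right h4)
  · have : ρ * x * ρ⁻¹ = x * w⁻¹⁻¹ := by rw [hw]; group
    rw [this]; exact mul_mem (h.mem_nrm_Astar_pt h₁ h₂ hx₁ hx₂) (inv_mem hwN)

/-- an `r`-group normalised by a point `x` of a subspace `J` and containing `RR J` normalises a block containing `J` -/
theorem exists_blk_ge {J : Set G} (hJ : Sub r D J) {x : G} (hx : x ∈ J) {Q : Subgroup G} (hQ : IsPGroup r Q)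
    (hxQ : x ∈ normalizer (Q : Set G)) (hQJ : Q ≤ normalizer J) : ∃ Y, Blk D Y ∧ J ⊆ Y ∧ Q ≤ normalizer Y := by
  obtain ⟨P, Y, -, h1, h2, h3, h4, -⟩ := h.syl (hJ.sub hx) (isPGroup_sup_of_normalizes' hJ.pg hQ (hQJ.trans (nrm_le_nrm_RR J)))
    (le_normalizer_sup (zpowers_le.2 (hJ.mem_nrm_RR h.toIsF hx)) (zpowers_le.2 hxQ) (mem_zpowers x))
  refine ⟨Y, h1, fun y hy => ?_, le_sup_right.trans (h3.trans h4)⟩
  obtain ⟨ρ, hρ, rfl⟩ := hJ.exists_conj h.toIsF hx hy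
  exact conj_mem_of_nrm (h4 (h3 (mem_sup_left hρ))) h2

/-- (F5): for distinct blocks with a common point, `EE Y' ∩ N(Y)` is central -/
theorem f5 (hY : Blk D Y) (hY' : Blk D Y') (hne : Y ≠ Y') {x : G} (hx : x ∈ Y) (hx' : x ∈ Y') {e : G}
    (he : e ∈ EE Y') (heY : e ∈ normalizer Y) : e ∈ center G := by
  by_contra hz
  obtain ⟨I, -, ⟨Y₁, Y₂, h₁, h₂, hne, hx₁, hx₂, ⟨e₂, he₂, he₂Y, hz₂⟩, rfl⟩, hmax⟩ := Finite.exists_le_maximal
    (p := fun I : Set G => ∃ Y₁ Y₂, Blk D Y₁ ∧ Blk D Y₂ ∧ Y₁ ≠ Y₂ ∧ x ∈ Y₁ ∧ x ∈ Y₂ ∧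
      (∃ e ∈ EE Y₂, e ∈ normalizer Y₁ ∧ e ∉ center G) ∧ I = Y₁ ∩ Y₂) ⟨Y, Y', hY, hY', hne, hx, hx', ⟨e, he, heY, hz⟩, rfl⟩
  obtain ⟨e₁, he₁, he₁Y, hz₁⟩ := h.bad_symm h₁ h₂ he₂ he₂Y hz₂
  obtain ⟨y₁, a₁, b₁, c₁⟩ := h.f5_step h₁ h₂ hne hx₁ hx₂ he₂ he₂Y hz₂
  obtain ⟨y₂, a₂, b₂, c₂⟩ := h.f5_step h₂ h₁ hne.symm hx₂ hx₁ he₁ he₁Y hz₁
  rw [Astar_comm] at c₂
  have hA := h.pg_Astar h₁ h₂
  have hxA := h.mem_nrm_Astar_pt h₁ h₂ hx₁ hx₂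
  have hJ := h.sub_inter (h.nrm_ne_top hA fun hle => hz₂ (hle (mem_Astar₃ he₂ he₂Y)))
  obtain ⟨Y₃, h₃, hJ₃, hA₃⟩ := h.exists_blk_ge hJ ⟨h₁.sub hx₁, hxA⟩ hA hxA
    ((le_normalizer.trans le_normalizer).trans (h.nrm_le_nrm_inter _))
  have hx₃ : x ∈ Y₃ := hJ₃ ⟨h₁.sub hx₁, hxA⟩
  have hI₃ : Y₁ ∩ Y₂ ⊆ Y₃ := fun y hy => by
    obtain ⟨ρ, hρ, rfl⟩ := ((h.sub_of_blk h₁).inter (h.sub_of_blk h₂)).exists_conj h.toIsF ⟨hx₁, hx₂⟩ hy
    exact conj_mem_of_nrm (hA₃ (mem_Astar₁ hρ)) hx₃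
  have e1 : Y₃ = Y₁ := by
    by_contra hn
    exact b₁ (hmax ⟨Y₃, Y₁, h₃, h₁, hn, hx₃, hx₁, ⟨e₁, he₁, hA₃ (mem_Astar₂ he₁ he₁Y), hz₁⟩, rfl⟩
      (Set.subset_inter hI₃ Set.inter_subset_left) ⟨hJ₃ ⟨h₁.sub a₁, c₁⟩, a₁⟩).2
  have e2 : Y₃ = Y₂ := by
    by_contra hn
    exact b₂ (hmax ⟨Y₃, Y₂, h₃, h₂, hn, hx₃, hx₂, ⟨e₂, he₂, hA₃ (mem_Astar₃ he₂ he₂Y), hz₂⟩, rfl⟩
      (Set.subset_inter hI₃ Set.inter_subset_right) ⟨hJ₃ ⟨h₂.sub a₂, c₂⟩, a₂⟩).1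
  exact hne (e1.symm.trans e2)

/-- (TG): a subspace meeting the block `Y` and normalised by a non-central element of `EE Y` lies in `Y` -/
theorem tg (hY : Blk D Y) {e : G} (he : e ∈ EE Y) (hz : e ∉ center G) {J : Set G} (hJ : Sub r D J)
    (heJ : e ∈ normalizer J) {x : G} (hx : x ∈ Y) (hxJ : x ∈ J) : J ⊆ Y := by
  obtain ⟨Y₃, h₃, hJ₃, hQ⟩ := h.exists_blk_ge hJ hxJ ((h.sub_of_blk hY).pg.to_le (zpowers_le.2 he.1))
    (mem_normalizer_of_cj_le (by rw [cj_zpowers, mem_centralizer_iff.1 he.2 x hx, mul_inv_cancel_right])) (zpowers_le.2 heJ)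
  by_cases e1 : Y₃ = Y
  · exact e1 ▸ hJ₃
  · exact absurd (h.f5 h₃ hY e1 (hJ₃ hxJ) hx he (hQ (mem_zpowers e))) hz

omit h in
theorem mem_nrm_sup_center {R : Subgroup G} {c : G} (hc : ∀ v ∈ R, ⁅c, v⁆ ∈ center G) :
    c ∈ normalizer ((R ⊔ center G : Subgroup G) : Set G) := by
  refine mem_normalizer_of_cj_le (cj_le_iff.2 (sup_le ?_ ?_)) <;> refine cj_le_iff.1 (cj_le_iff_forall.2 fun a ha => ?_)
  · have : c * a * c⁻¹ = ⁅c, a⁆ * a := by rw [commutatorElement_def]; group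
    rw [this]; exact mul_mem (mem_sup_right (hc a ha)) (mem_sup_left ha)
  · rw [conj_of_center ha]; exact mem_sup_right ha

theorem jl_core (hY : Blk D Y) {x y : G} (hxy : x ≠ y) (hx : x ∈ Y) (hy : y ∈ Y) {c : G}
    (hc : ∀ v ∈ RR {x, y}, ⁅c, v⁆ ∈ center G) : c * x * c⁻¹ ∈ Y := by
  have hT := (h.pg x (hY.sub hx) y (hY.sub hy)).to_sup_of_normal_right h.zr
  have hJ := h.sub_inter (h.nrm_ne_top hT fun hle => h.RR_pair_not_le (hY.sub hx) (hY.sub hy) hxy (le_sup_left.trans hle))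
  have hxT : x ∈ normalizer ((RR {x, y} ⊔ center G : Subgroup G) : Set G) :=
    le_normalizer_sup (zpowers_le.2 (mem_nrm_RR_pair x y)) (nrm_center (G := G) ▸ le_top) (mem_zpowers x)
  obtain ⟨e, he, hz⟩ := SetLike.not_le_iff_exists.1 (h.EE_not_le hY)
  have heT : e ∈ normalizer ((RR {x, y} ⊔ center G : Subgroup G) : Set G) := mem_nrm_sup_center fun v hv => by
    rw [commutatorElement_eq_one_iff_mul_comm.2 (EE_comm he (RR_mono (Set.pair_subset hx hy) hv)).symm]; exact one_mem _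
  have hcT := mem_nrm_sup_center hc
  exact h.tg hY he hz hJ (h.nrm_le_nrm_inter _ (le_normalizer heT)) hx ⟨hY.sub hx, hxT⟩
    ⟨h.conj x (hY.sub hx) c, mul_mem (mul_mem hcT hxT) (inv_mem hcT)⟩

/-- (JL1): a block containing two points of the intersection of two distinct blocks contains the intersection -/
theorem jl_sub {Y₁ Y₂ : Set G} (h₁ : Blk D Y₁) (h₂ : Blk D Y₂) (hne : Y₁ ≠ Y₂) {x y : G} (hxy : x ≠ y)
    (hx : x ∈ Y₁ ∩ Y₂) (hy : y ∈ Y₁ ∩ Y₂) (hY : Blk D Y) (hxY : x ∈ Y) (hyY : y ∈ Y) : Y₁ ∩ Y₂ ⊆ Y := fun z hz => by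
  obtain ⟨ρ, hρ, rfl⟩ := ((h.sub_of_blk h₁).inter (h.sub_of_blk h₂)).exists_conj h.toIsF hx hz
  exact h.jl_core hY hxy hxY hyY fun v hv => h.comm_inter h₁ h₂ hne hρ (RR_mono (Set.pair_subset hx hy) hv)

/-- (JL2) `u^⊥ ⊆ I`: if `U` is normalised by `x ∈ I = Y₁ ∩ Y₂`, some `u ∈ U` moves `x` to a second point of `I` and `[c, U]` is
central, then `c x c⁻¹ ∈ I` -/
theorem jl_perp {Y₁ Y₂ : Set G} (h₁ : Blk D Y₁) (h₂ : Blk D Y₂) (hne : Y₁ ≠ Y₂) {x : G} (hx : x ∈ Y₁ ∩ Y₂)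
    {U : Subgroup G} (hxU : x ∈ normalizer (U : Set G)) {u : G} (hu : u ∈ U) (hux : u * x * u⁻¹ ≠ x)
    (huI : u * x * u⁻¹ ∈ Y₁ ∩ Y₂) {c : G} (hc : ∀ v ∈ U, ⁅c, v⁆ ∈ center G) : c * x * c⁻¹ ∈ Y₁ ∩ Y₂ :=
  ⟨h.jl_core h₁ hux.symm hx.1 huI.1 fun v hv => hc v (RR_pair_le hxU hu hv),
    h.jl_core h₂ hux.symm hx.2 huI.2 fun v hv => hc v (RR_pair_le hxU hu hv)⟩

/-- (PART): the blocks through `x` have no second common point -/
theorem part {x y : G} (hx : x ∈ D) (hall : ∀ Y, Blk D Y → x ∈ Y → y ∈ Y) : y = x := by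
  by_contra hyx
  have hF := h.toIsF
  obtain ⟨Y₀, h₀, hx₀, -⟩ := h.exists_blk_pair hx hx
  have hy : y ∈ D := h₀.sub (hall Y₀ h₀ hx₀)
  obtain ⟨τ, hτ, e⟩ := h.exists_conj hx hy
  set K : Subgroup G := ⨅ Y ∈ {Y | Blk D Y}, normalizer Y with hK
  have mK : ∀ g, g ∈ K ↔ ∀ Y, Blk D Y → g ∈ normalizer Y := fun g => by simp [hK, mem_iInf]
  have hKn : K.Normal := ⟨fun k hk g => (mK _).2 fun Y hY => by
    have := mem_nrm_cjs.1 ((mK k).1 hk _ (h.blk_cj hY g⁻¹))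
    simpa using this⟩
  have hτK : τ ∈ K := (mK τ).2 fun Y hY => mem_nrm_iff.2 (h.eq_of_subset (h.blk_cj hY τ) hY (by
    rintro _ ⟨z, hz, rfl⟩
    obtain ⟨Y', h1, h2, h3⟩ := h.exists_blk_pair hx (hY.sub hz)
    have S := h.sub_of_blk h1
    obtain ⟨σ, hσ, rfl⟩ := S.exists_conj hF h2 h3
    have hτ' : τ ∈ RR Y' := RR_mono (Set.pair_subset h2 (hall Y' h1 h2)) hτ
    have h4 := mem_cjs.1 (hall _ (h.blk_cj hY σ⁻¹) (mem_cjs.2 (by simpa using hz)))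
    have h5 := EE_mul_conj (ρ := σ * τ) (S.comm_mem hF h.na (inv_mem hτ') (inv_mem hσ)) h2
    have e1 : τ * (σ * x * σ⁻¹) * τ⁻¹ = σ⁻¹⁻¹ * y * σ⁻¹ := by
      calc τ * (σ * x * σ⁻¹) * τ⁻¹ = σ * τ * ⁅τ⁻¹, σ⁻¹⁆ * x * (σ * τ * ⁅τ⁻¹, σ⁻¹⁆)⁻¹ := by
            rw [commutatorElement_def]; group
        _ = _ := by rw [h5, ← e]; group
    change τ * (σ * x * σ⁻¹) * τ⁻¹ ∈ Y
    rw [e1]; exact h4))
  rcases h.nrm K hKn with h1 | h1
  · exact hyx (by rw [← e, ← mem_center_iff.1 (h1 hτK), mul_inv_cancel_right])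
  · refine h.nrm_ne h₀.sub ⟨x, hx₀⟩ h₀.ne (eq_top_iff.2 ((h.sup_eq hx).ge.trans (sup_le (fun g hg => (mK g).1 (h1 hg) _ h₀) ?_)))
    exact zpowers_le.2 ((h.sub_of_blk h₀).mem_nrm hF hx₀)

end St

end CL.FS
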