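/-
Linear F-sets: involutions acting on odd groups of class 2, four-groups.
-/
import Cfsg.Agent.PERM.FS.Basic
import Cfsg.Prelude.Def_CaseTheorems

set_option autoImplicit false

namespace CL.FS.X6

open Subgroup CL.MSS Cfsg
open scoped commutatorElement

variable {G : Type*} [Group G]

theorem nm {A : Subgroup G} {g a : G} (h : g ∈ normalizer (A : Set G)) (ha : a ∈ A) :
    g * a * g⁻¹ ∈ A := (mem_normalizer_iff.1 h a).1 ha

theorem nm_of [Finite G] {A : Subgroup G} {g : G} (h : ∀ a ∈ A, g * a * g⁻¹ ∈ A) :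
    g ∈ normalizer (A : Set G) := mem_normalizer_of_cj_le (cj_le_iff_forall.2 h)

theorem sq_of_ord {t : G} (ht : orderOf t = 2) : t * t = 1 := by rw [← pow_two, ← ht, pow_orderOf_eq_one]

theorem ne_of_ord {t : G} (ht : orderOf t = 2) : t ≠ 1 := fun e => by simp [e] at ht

theorem ord_of_sq {t : G} (h : t * t = 1) (h1 : t ≠ 1) : orderOf t = 2 :=
  orderOf_eq_prime (by rwa [pow_two]) h1

theorem ord_conj (g t : G) : orderOf (g * t * g⁻¹) = orderOf t := by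
  rw [← MulAut.conj_apply, MulEquiv.orderOf_eq]

theorem pg_sq {A : Subgroup G} (h : ∀ a ∈ A, a * a = 1) : IsPGroup 2 A := fun a =>
  ⟨1, Subtype.ext (by simpa [pow_two] using h a a.2)⟩

theorem comm_sq {A : Subgroup G} (e : ∀ x ∈ A, x * x = 1) {x y : G} (hx : x ∈ A) (hy : y ∈ A) :
    x * y = y * x := by
  calc x * y = x * (x * y * (x * y)) * y := by rw [e _ (mul_mem hx hy)]; group
    _ = (x * x) * (y * x) * (y * y) := by group
    _ = y * x := by rw [e x hx, e y hy]; group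

theorem ab_sq {A : Subgroup G} (e : ∀ x ∈ A, x * x = 1) : IsMulCommutative A :=
  ⟨⟨fun a b => Subtype.ext (comm_sq e a.2 b.2)⟩⟩

theorem exists_inv_pow {P : Subgroup G} (hP : IsPGroup 2 P) {g : G} (hg : g ∈ P) (h1 : g ≠ 1) :
    ∃ n : ℕ, orderOf (g ^ n) = 2 := by
  obtain ⟨k, hk⟩ := isPGroup_iff_forall_mem.1 hP g hg
  clear hg
  induction k generalizing g with
  | zero => exact absurd (by simpa using hk) h1
  | succ k ih =>
    by_cases h2 : g * g = 1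
    · exact ⟨1, by rw [pow_one, ord_of_sq h2 h1]⟩
    · obtain ⟨n, hn⟩ := ih h2 (by rw [← pow_two, ← pow_mul, ← pow_succ', hk])
      exact ⟨2 * n, by rwa [pow_mul, pow_two]⟩

theorem not_cyclic_of_card [Finite G] {A : Subgroup G} (e : ∀ x ∈ A, x * x = 1) (h : 2 < Nat.card A) :
    ¬ IsCyclic A := fun hc => by
  have : Monoid.exponent A ∣ 2 := Monoid.exponent_dvd_of_forall_pow_eq_one fun a =>
    Subtype.ext (by simpa [pow_two] using e a a.2)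
  rw [IsCyclic.exponent_eq_card] at this
  exact absurd (Nat.le_of_dvd two_pos this) (by omega)

theorem exists_elem {k : ℕ} {T : Subgroup G} (h : ¬ PRankLE 2 k T) :
    ∃ A ≤ T, (∀ a ∈ A, a * a = 1) ∧ 2 ^ k < Nat.card A := by
  simp only [PRankLE, not_forall, not_le] at h
  obtain ⟨A, -, h2, h3⟩ := h
  refine ⟨A.map T.subtype, map_subtype_le A, ?_, by rwa [card_map_of_injective T.subtype_injective]⟩
  rintro _ ⟨a, ha, rfl⟩
  exact (by simpa [pow_two] using congrArg Subtype.val (h2 a ha))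

theorem not_rank_of {k : ℕ} {T A : Subgroup G} (hA : A ≤ T) (e : ∀ a ∈ A, a * a = 1)
    (h : 2 ^ k < Nat.card A) : ¬ PRankLE 2 k T := fun hr => by
  have := hr (A.subgroupOf T) (ab_sq fun a ha => Subtype.ext (e a ha))
    fun a ha => Subtype.ext (by simpa [pow_two] using e a ha)
  rw [Nat.card_congr (subgroupOfEquivOfLe hA).toEquiv] at this
  omega

/-- the four-group generated by two commuting involutions -/
def V4 {u t : G} (hu : u * u = 1) (ht : t * t = 1) (hc : u * t = t * u) : Subgroup G where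
  carrier := {b | b = 1 ∨ b = u ∨ b = t ∨ b = u * t}
  one_mem' := .inl rfl
  mul_mem' := by
    have e1 : u * (u * t) = t := by rw [← mul_assoc, hu, one_mul]
    have e2 : t * (u * t) = u := by rw [hc, ← mul_assoc, ht, one_mul]
    have e3 : u * t * u = t := by rw [hc, mul_assoc, hu, mul_one]
    have e4 : u * t * t = u := by rw [mul_assoc, ht, mul_one]
    have e5 : u * t * (u * t) = 1 := by rw [← mul_assoc, e3, ht]
    rintro a b (rfl | rfl | rfl | rfl) (rfl | rfl | rfl | rfl) <;>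
      simp only [Set.mem_ofPred_eq, one_mul, mul_one, hu, ht, e1, e2, e3, e4, e5, ← hc, true_or, or_true]
  inv_mem' := by
    rintro a (rfl | rfl | rfl | rfl)
    · simp
    · exact .inr (.inl (inv_eq_of_mul_eq_one_right hu))
    · exact .inr (.inr (.inl (inv_eq_of_mul_eq_one_right ht)))
    · exact .inr (.inr (.inr (by
        rw [mul_inv_rev, inv_eq_of_mul_eq_one_right hu, inv_eq_of_mul_eq_one_right ht, hc])))

theorem V4_sq {u t : G} (hu : u * u = 1) (ht : t * t = 1) (hc : u * t = t * u) :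
    ∀ b ∈ V4 hu ht hc, b * b = 1 := by
  rintro b (rfl | rfl | rfl | rfl)
  · simp
  · exact hu
  · exact ht
  · rw [mul_assoc, ← mul_assoc t, ← hc, mul_assoc u, ht, mul_one, hu]

theorem V4_le {u t : G} (hu : u * u = 1) (ht : t * t = 1) (hc : u * t = t * u) {K : Subgroup G}
    (h1 : u ∈ K) (h2 : t ∈ K) : V4 hu ht hc ≤ K := by
  rintro b (rfl | rfl | rfl | rfl)
  exacts [one_mem _, h1, h2, mul_mem h1 h2]

theorem V4_not_cyclic {u t : G} (hu : u * u = 1) (ht : t * t = 1) (hc : u * t = t * u) (u1 : u ≠ 1)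
    (t1 : t ≠ 1) (ne : u ≠ t) : ¬ IsCyclic (V4 hu ht hc) := fun ⟨g, hg⟩ => by
  have key : ∀ b : V4 hu ht hc, b ≠ 1 → b = g := fun b hb => by
    obtain ⟨n, rfl⟩ := hg b
    have g2 : g ^ (2 : ℤ) = 1 := Subtype.ext (by simpa [zpow_two, pow_two] using V4_sq hu ht hc g g.2)
    rcases Int.even_or_odd' n with ⟨m, rfl | rfl⟩
    · exact absurd (by simp [zpow_mul, g2]) hb
    · simp [zpow_add, zpow_mul, g2]
  exact ne (congrArg Subtype.val ((key ⟨u, .inr (.inl rfl)⟩ fun e => u1 (congrArg Subtype.val e)).trans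
    (key ⟨t, .inr (.inr (.inl rfl))⟩ fun e => t1 (congrArg Subtype.val e)).symm))

theorem cop_two [Finite G] {r : ℕ} (hr : r.Prime) (h2 : r ≠ 2) {B : Subgroup G} (hB : IsPGroup 2 B) :
    (Nat.card B).Coprime r := by
  have : Fact (Nat.Prime 2) := ⟨Nat.prime_two⟩
  obtain ⟨n, hn⟩ := hB.exists_card_eq
  rw [hn]
  exact Nat.Coprime.pow_left _ ((Nat.coprime_primes Nat.prime_two hr).2 h2.symm)

theorem odd_of_pg [Finite G] {r : ℕ} (hr : r.Prime) (h2 : r ≠ 2) {B : Subgroup G} (hB : IsPGroup r B) :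
    Odd (Nat.card B) := by
  have : Fact r.Prime := ⟨hr⟩
  obtain ⟨n, hn⟩ := hB.exists_card_eq
  rw [hn]
  exact (hr.odd_of_ne_two h2).pow

/-- `E` is central in `R` and `R / E` is abelian -/
structure Cl2 (R E : Subgroup G) : Prop where
  le : E ≤ R
  cen : ∀ e ∈ E, ∀ ρ ∈ R, ρ * e = e * ρ
  cm : ∀ ρ ∈ R, ∀ σ ∈ R, ⁅ρ, σ⁆ ∈ E

theorem cl2 [Finite G] {p r : ℕ} {D Y : Set G} (h : IsF p r D) (hn : NA D) (hY : Sub r D Y) :
    Cl2 (RR Y) (EE Y) :=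
  ⟨EE_le_RR Y, fun _ he _ hρ => EE_comm he hρ, fun _ h1 _ h2 =>
    hY.comm_RR h hn ▸ commutator_mem_commutator h1 h2⟩

namespace Cl2

variable {R E : Subgroup G} (c : Cl2 R E) {u g ρ σ e e' : G}
include c

theorem conj_e (he : e ∈ E) (hρ : ρ ∈ R) : ρ * e * ρ⁻¹ = e := by rw [c.cen e he ρ hρ, mul_inv_cancel_right]

theorem cm_e (hρ : ρ ∈ R) (hσ : σ ∈ R) (he : e ∈ E) (he' : e' ∈ E) : ⁅ρ * e, σ * e'⁆ = ⁅ρ, σ⁆ := by
  calc _ = ρ * (e * σ * e⁻¹) * (e * (e' * (e⁻¹ * ρ⁻¹) * e'⁻¹)) * σ⁻¹ := by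
        simp only [commutatorElement_def]; group
    _ = _ := by
      rw [← c.cen e he σ hσ, ← c.cen e' he' _ (mul_mem (inv_mem (c.le he)) (inv_mem hρ)),
        commutatorElement_def]; group

theorem cm_inv (hρ : ρ ∈ R) (hσ : σ ∈ R) : ⁅ρ⁻¹, σ⁻¹⁆ = ⁅ρ, σ⁆ := by
  rw [← c.conj_e (c.cm _ hρ _ hσ) (inv_mem (mul_mem hσ hρ))]
  simp only [commutatorElement_def]; group

theorem cm_mul (hρ : ρ ∈ R) (hσ : σ ∈ R) (hg : g ∈ R) : ⁅ρ * σ, g⁆ = ⁅ρ, g⁆ * ⁅σ, g⁆ := by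
  rw [c.cen _ (c.cm _ hσ _ hg) _ (c.le (c.cm _ hρ _ hg)), ← c.conj_e (c.cm _ hσ _ hg) hρ]
  simp only [commutatorElement_def]; group

/-- the elements centralised by `u` modulo `E` -/
def Rp (hu : u ∈ normalizer (R : Set G)) : Subgroup G where
  carrier := {ρ | ρ ∈ R ∧ ρ⁻¹ * (u * ρ * u⁻¹) ∈ E}
  one_mem' := ⟨one_mem _, by simp⟩
  mul_mem' := by
    rintro ρ σ ⟨h1, h2⟩ ⟨h3, h4⟩
    refine ⟨mul_mem h1 h3, ?_⟩
    have := mul_mem h2 h4
    rw [← c.conj_e h2 (inv_mem h3)] at this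
    convert this using 1; group
  inv_mem' := by
    rintro ρ ⟨h1, h2⟩
    refine ⟨inv_mem h1, ?_⟩
    have := inv_mem h2
    rw [← c.conj_e this h1] at this
    have _ := hu
    convert this using 1; group

/-- the elements inverted by `u` modulo `E` -/
def Rm (hu : u ∈ normalizer (R : Set G)) : Subgroup G where
  carrier := {ρ | ρ ∈ R ∧ ρ * (u * ρ * u⁻¹) ∈ E}
  one_mem' := ⟨one_mem _, by simp⟩
  mul_mem' := by
    rintro ρ σ ⟨h1, h2⟩ ⟨h3, h4⟩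
    refine ⟨mul_mem h1 h3, ?_⟩
    have := mul_mem (mul_mem h2 (c.cm _ (inv_mem (nm hu h1)) _ h3)) h4
    convert this using 1; simp only [commutatorElement_def]; group
  inv_mem' := by
    rintro ρ ⟨h1, h2⟩
    refine ⟨inv_mem h1, ?_⟩
    have := inv_mem h2
    rw [← c.conj_e this (inv_mem h1)] at this
    convert this using 1; group

variable (hu : u ∈ normalizer (R : Set G))

theorem mem_Rp : ρ ∈ c.Rp hu ↔ ρ ∈ R ∧ ρ⁻¹ * (u * ρ * u⁻¹) ∈ E := Iff.rfl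

theorem mem_Rm : ρ ∈ c.Rm hu ↔ ρ ∈ R ∧ ρ * (u * ρ * u⁻¹) ∈ E := Iff.rfl

theorem E_le_Rp (hE : u ∈ normalizer (E : Set G)) : E ≤ c.Rp hu :=
  fun _ he => ⟨c.le he, mul_mem (inv_mem he) (nm hE he)⟩

theorem E_le_Rm (hE : u ∈ normalizer (E : Set G)) : E ≤ c.Rm hu :=
  fun _ he => ⟨c.le he, mul_mem he (nm hE he)⟩

theorem nrm_Rp [Finite G] (h1 : g ∈ normalizer (R : Set G)) (h2 : g ∈ normalizer (E : Set G))
    (e : g * u = u * g) : g ∈ normalizer (c.Rp hu : Set G) := nm_of fun ρ hρ => ⟨nm h1 hρ.1, by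
  have := nm h2 hρ.2
  rwa [show g * (ρ⁻¹ * (u * ρ * u⁻¹)) * g⁻¹ = (g * ρ * g⁻¹)⁻¹ * (g * u * ρ * (g * u)⁻¹) by group, e,
    show u * g * ρ * (u * g)⁻¹ = u * (g * ρ * g⁻¹) * u⁻¹ by group] at this⟩

theorem nrm_Rm [Finite G] (h1 : g ∈ normalizer (R : Set G)) (h2 : g ∈ normalizer (E : Set G))
    (e : g * u = u * g) : g ∈ normalizer (c.Rm hu : Set G) := nm_of fun ρ hρ => ⟨nm h1 hρ.1, by
  have := nm h2 hρ.2
  rwa [show g * (ρ * (u * ρ * u⁻¹)) * g⁻¹ = (g * ρ * g⁻¹) * (g * u * ρ * (g * u)⁻¹) by group, e,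
    show u * g * ρ * (u * g)⁻¹ = u * (g * ρ * g⁻¹) * u⁻¹ by group] at this⟩

theorem cm_Rp (h1 : ρ ∈ c.Rp hu) (h2 : σ ∈ c.Rp hu) : ⁅ρ, σ⁆ * u = u * ⁅ρ, σ⁆ := by
  nth_rewrite 1 [← c.cm_e h1.1 h2.1 h1.2 h2.2]
  simp only [commutatorElement_def]; group

theorem cm_Rm (h1 : ρ ∈ c.Rm hu) (h2 : σ ∈ c.Rm hu) : ⁅ρ, σ⁆ * u = u * ⁅ρ, σ⁆ := by
  nth_rewrite 1 [← c.cm_inv h1.1 h2.1, ← c.cm_e (inv_mem h1.1) (inv_mem h2.1) h1.2 h2.2]
  simp only [commutatorElement_def]; group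

theorem dec [Finite G] (ho : Odd (Nat.card R)) (uu : u * u = 1) {R' : Subgroup G} (hR' : R' ≤ R)
    (hn : u ∈ normalizer (R' : Set G)) (hρ : ρ ∈ R') :
    ∃ a ∈ R', ∃ b ∈ R', a ∈ c.Rp hu ∧ b ∈ c.Rm hu ∧ ρ = a * b := by
  obtain ⟨m, hm⟩ := exists_pow_eq_self_of_coprime (x := ρ) (n := 2)
    (ho.of_dvd_nat (orderOf_dvd_natCard R (hR' hρ))).coprime_two_left
  have hσ : ρ ^ m ∈ R' := pow_mem hρ m
  have e : ρ = ρ ^ m * ρ ^ m := by rw [← pow_two, ← pow_mul, mul_comm, pow_mul, hm]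
  generalize ρ ^ m = σ at hσ e
  have hc := nm hn hσ
  have e2 : u * (u * σ * u⁻¹) * u⁻¹ = σ := by
    calc _ = (u * u) * σ * (u * u)⁻¹ := by group
      _ = _ := by rw [uu]; group
  refine ⟨σ * (u * σ * u⁻¹), mul_mem hσ hc, (u * σ * u⁻¹)⁻¹ * σ, mul_mem (inv_mem hc) hσ,
    ⟨hR' (mul_mem hσ hc), ?_⟩, ⟨hR' (mul_mem (inv_mem hc) hσ), ?_⟩, by rw [e]; group⟩
  · have := c.cm _ (inv_mem (hR' hc)) _ (inv_mem (hR' hσ))
    rw [← conj_mul, e2]
    convert this using 1; simp only [commutatorElement_def]; group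
  · rw [← conj_mul, ← conj_inv, e2]
    convert one_mem E using 1; group

theorem mem_E [Finite G] (ho : Odd (Nat.card R)) (h1 : ρ ∈ c.Rp hu) (h2 : ρ ∈ c.Rm hu) : ρ ∈ E := by
  obtain ⟨m, hm⟩ := exists_pow_eq_self_of_coprime (x := ρ) (n := 2)
    (ho.of_dvd_nat (orderOf_dvd_natCard R h1.1)).coprime_two_left
  rw [← hm]
  refine pow_mem ?_ m
  have := mul_mem h2.2 (inv_mem h1.2)
  convert this using 1; rw [pow_two]; group

theorem pp_mul {t : G} (ht : t ∈ normalizer (R : Set G)) (hE : u ∈ normalizer (E : Set G))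
    (h1 : ρ ∈ c.Rp hu) (h2 : ρ ∈ c.Rp ht) : ρ ∈ c.Rp (mul_mem hu ht) :=
  ⟨h1.1, by convert mul_mem h1.2 (nm hE h2.2) using 1; group⟩

theorem mm_mul {t : G} (ht : t ∈ normalizer (R : Set G)) (hE : u ∈ normalizer (E : Set G))
    (h1 : ρ ∈ c.Rm hu) (h2 : ρ ∈ c.Rm ht) : ρ ∈ c.Rp (mul_mem hu ht) :=
  ⟨h1.1, by convert mul_mem (inv_mem h1).2 (nm hE h2.2) using 1; group⟩

end Cl2

theorem cjs_Fx {p r : ℕ} {D : Set G} (h : IsF p r D) (g t : G) : cjs g (Fx D t) = Fx D (g * t * g⁻¹) := by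
  ext y
  rw [mem_cjs, mem_Fx, mem_Fx]
  refine and_congr ⟨fun hy => by simpa [mul_assoc] using h.conj _ hy g,
    fun hy => by simpa using h.conj _ hy g⁻¹⟩ ⟨fun e => ?_, fun e => ?_⟩
  · calc _ = g * (g⁻¹ * y * g * t) * g⁻¹ := by group
      _ = _ := by rw [e]; group
  · calc _ = g⁻¹ * (y * (g * t * g⁻¹)) * g := by group
      _ = _ := by rw [e]; group

theorem nrm_Fx {p r : ℕ} {D : Set G} (h : IsF p r D) {g t : G} (e : g * t = t * g) :
    g ∈ normalizer (Fx D t) := by rw [mem_nrm_iff, cjs_Fx h, e, mul_inv_cancel_right]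

/-- `ρ x ρ⁻¹` is fixed by `u` iff `ρ ∈ R₊` -/
theorem comm_iff [Finite G] {p r : ℕ} {D Y : Set G} (h : IsF p r D) (hn : NA D) (hY : Sub r D Y) {x u ρ : G}
    (hx : x ∈ Y) (hu : u ∈ normalizer (RR Y : Set G)) (e : x * u = u * x) (hρ : ρ ∈ RR Y) :
    ρ * x * ρ⁻¹ * u = u * (ρ * x * ρ⁻¹) ↔ ρ ∈ (cl2 h hn hY).Rp hu := by
  rw [Cl2.mem_Rp, hY.mem_EE_iff h hn hx (mul_mem (inv_mem hρ) (nm hu hρ))]
  refine ⟨fun e' => ⟨hρ, ?_⟩, fun e' => ?_⟩
  · calc _ = ρ⁻¹ * (u * ρ * (u⁻¹ * (x * u)) * ρ⁻¹) * ρ * u⁻¹ := by group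
      _ = ρ⁻¹ * (u * (ρ * x * ρ⁻¹)) * ρ * u⁻¹ := by rw [e]; group
      _ = _ := by rw [← e']; group
  · calc _ = ρ * (x * (ρ⁻¹ * (u * ρ * u⁻¹))) * u * ρ⁻¹ := by group
      _ = u * ρ * u⁻¹ * (x * u) * ρ⁻¹ := by rw [← e'.2]; group
      _ = _ := by rw [e]; group

/-- inside a larger subspace, `ρ` moves `x ∈ I` inside `I` iff it normalises `I` -/
theorem mem_iff_nrm [Finite G] {p r : ℕ} {D Y I : Set G} (h : IsF p r D) (hn : NA D) (hY : Sub r D Y)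
    (hI : Sub r D I) (hs : I ⊆ Y) {x ρ : G} (hx : x ∈ I) (hρ : ρ ∈ RR Y) :
    ρ * x * ρ⁻¹ ∈ I ↔ ρ ∈ normalizer I := by
  refine ⟨fun h1 => ?_, fun h1 => conj_mem_of_nrm h1 hx⟩
  obtain ⟨σ, hσ, e⟩ := hI.exists_conj h hx h1
  have : σ⁻¹ * ρ ∈ EE Y := (hY.mem_EE_iff h hn (hs hx) (mul_mem (inv_mem (RR_mono hs hσ)) hρ)).2 (by
    calc _ = σ⁻¹ * (ρ * x * ρ⁻¹) * ρ := by group
      _ = _ := by rw [← e]; group)
  exact (mul_mem_cancel_left (inv_mem (hI.RR_le_nrm h hσ))).1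
    (cen_le_nrm I (centralizer_le hs this.2))

end CL.FS.X6
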