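/-
A group with a 2-transitive group of automorphisms of its action and point stabilisers with non-trivial centre: two points.
-/
import Cfsg.Agent.PERM.FS.Basic
import Cfsg.Agent.INV.U3Ch.Basic
import Cfsg.Agent.S0035

set_option autoImplicit false

namespace CL.FS.KL

open Subgroup CL.MSS MulAction
open scoped commutatorElement Pointwise

variable {G Δ : Type*} [Group G] [MulAction G Δ]

/-- an automorphism of the action -/
def Cp (α : G ≃* G) (φ : Δ ≃ Δ) : Prop := ∀ t a, α t • φ a = φ (t • a)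

/-- the centre of a point stabiliser -/
def Zc (G : Type*) [Group G] [MulAction G Δ] (c : Δ) : Subgroup G :=
  stabilizer G c ⊓ centralizer (stabilizer G c : Set G)

variable {α : G ≃* G} {φ : Δ ≃ Δ}

theorem Cp.fix (h : Cp α φ) {t : G} {a : Δ} : α t • φ a = φ a ↔ t • a = a := by rw [h, φ.apply_eq_iff_eq]

theorem Cp.symm (h : Cp α φ) : Cp α.symm φ.symm := fun t a => φ.injective (by rw [← h]; simp)

theorem Cp.zc (h : Cp α φ) {z : G} {c : Δ} (hz : z ∈ Zc G c) : α z ∈ Zc G (φ c) :=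
  ⟨h.fix.2 hz.1, fun t ht => by
    obtain ⟨t, rfl⟩ := α.surjective t
    rw [← map_mul, ← map_mul, hz.2 t (h.fix.1 ht)]⟩

theorem cp_conj (g : G) : Cp (MulAut.conj g) (toPerm g : Δ ≃ Δ) := fun t a => by simp [mul_smul]

/-- the hypothesis -/
structure Hy (G Δ : Type*) [Group G] [MulAction G Δ] : Prop where
  faith : ∀ g : G, (∀ a : Δ, g • a = a) → g = 1
  two : ∀ {b c d e : Δ}, b ≠ c → d ≠ e → ∃ (α : G ≃* G) (φ : Δ ≃ Δ), Cp α φ ∧ φ b = d ∧ φ c = e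
  mx : ∀ c : Δ, ∀ z ∈ Zc G c, z ≠ 1 → ∀ t, t * z = z * t → t • c = c

namespace Hy

variable (h : Hy G Δ)
include h

theorem sr {z : G} {c d : Δ} (hz : z ∈ Zc G d) (h1 : z ≠ 1) (hc : z • c = c) : c = d := by
  by_contra hcd
  refine h1 (h.faith z fun e => ?_)
  by_cases he : d = e
  · exact he ▸ hz.1
  obtain ⟨α, φ, h2, h3, h4⟩ := h.two hcd he
  have h5 := h2.symm.zc hz
  rw [← h3, φ.symm_apply_apply] at h5
  have := h2.fix.2 (h.mx d z hz h1 _ (h5.2 z hc).symm)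
  rwa [α.apply_symm_apply, h4] at this

variable [Finite G]

theorem two_pt {b c d e : Δ} (hbc : b ≠ c) (hde : d ≠ e)
    (hle : stabilizer G b ⊓ stabilizer G c ≤ stabilizer G d ⊓ stabilizer G e) :
    stabilizer G b ⊓ stabilizer G c = stabilizer G d ⊓ stabilizer G e := by
  obtain ⟨α, φ, h1, rfl, rfl⟩ := h.two hbc hde
  refine eq_of_le_of_card_ge hle (Nat.card_congr (α.toEquiv.subtypeEquiv fun t => ?_)).ge
  exact (and_congr h1.fix h1.fix).symm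

theorem pair {b c : Δ} (hbc : b ≠ c) {x : G} {p : ℕ} (hp : p.Prime) (hx : x ∈ Zc G b) (ho : orderOf x = p) :
    ∃ r, r.Prime ∧ r ≠ p ∧ ∃ R : Subgroup G, IsPGroup r R ∧ Zc G b ≤ normalizer (R : Set G) ∧
      Zc G c ≤ normalizer (R : Set G) ∧ (∃ ρ ∈ R, ρ • b = c) ∧ ∀ z ∈ Zc G b, z ^ p = 1 → z ∈ zpowers x := by
  have x1 : x ≠ 1 := by rintro rfl; exact hp.ne_one (by rw [← ho, orderOf_one])
  obtain ⟨W, hW⟩ : ∃ W, W = stabilizer G b ⊓ stabilizer G c := ⟨_, rfl⟩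
  have Λb : W ≤ stabilizer G b := hW ▸ inf_le_left
  have Λc : W ≤ stabilizer G c := hW ▸ inf_le_right
  have ZC : ∀ d : Δ, W ≤ stabilizer G d → Zc G d ≤ centralizer (W : Set G) := fun d hd z hz w hw => hz.2 w (hd hw)
  have CΛ : ∀ g ∈ centralizer (W : Set G), ∀ d : Δ, W ≤ stabilizer G d → W ≤ stabilizer G (g • d) :=
    fun g hg d hd w hw => by rw [mem_stabilizer_iff, ← mul_smul, hg w hw, mul_smul, hd hw]
  have tp : ∀ {d e : Δ}, d ≠ e → W ≤ stabilizer G d → W ≤ stabilizer G e → ∀ g, g ∈ W ↔ g • d = d ∧ g • e = e :=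
    fun hde hd he g => by rw [hW, h.two_pt hbc hde (hW ▸ le_inf hd he)]; rfl
  have αW : ∀ {d e d' e' : Δ}, d ≠ e → d' ≠ e' → W ≤ stabilizer G d → W ≤ stabilizer G e → W ≤ stabilizer G d' →
      W ≤ stabilizer G e' → ∃ (α : G ≃* G) (φ : Δ ≃ Δ), Cp α φ ∧ φ d = d' ∧ φ e = e' ∧ (∀ w, α w ∈ W ↔ w ∈ W) ∧
        (∀ g ∈ centralizer (W : Set G), α g ∈ centralizer (W : Set G)) ∧
        ∀ a, W ≤ stabilizer G (φ a) → W ≤ stabilizer G a := fun h1 h2 h3 h4 h5 h6 => by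
    obtain ⟨α, φ, hα, rfl, rfl⟩ := h.two h1 h2
    have k : ∀ w, α w ∈ W ↔ w ∈ W := fun w => by rw [tp h2 h5 h6, tp h1 h3 h4, hα.fix, hα.fix]
    refine ⟨α, φ, hα, rfl, rfl, k, fun g hg w hw => ?_, fun a ha w hw => hα.fix.1 (ha ((k w).2 hw))⟩
    obtain ⟨w, rfl⟩ := α.surjective w
    rw [← map_mul, ← map_mul, hg w ((k w).1 hw)]
  have xC := ZC b Λb hx
  have xc : x • c ≠ c := fun e => hbc (h.sr hx x1 e).symm
  have tr : ∀ d : Δ, W ≤ stabilizer G d → ∃ g ∈ centralizer (W : Set G), g • b = d := fun d hd => by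
    by_cases e : b = d
    · exact ⟨1, one_mem _, by rw [one_smul, e]⟩
    obtain ⟨α, φ, h1, h2, h3, -, h4, -⟩ := αW xc.symm e Λc (CΛ x xC c Λc) Λb hd
    exact ⟨α x, h4 x xC, by rw [← h2, h1, h3]⟩
  generalize hC : centralizer (W : Set G) = C at *
  have cW : ∀ g : C, ∀ w ∈ W, w * g = g * w := fun g => (hC ▸ g.2 : (g : G) ∈ centralizer (W : Set G))
  have hn : (W.subgroupOf C).Normal := ⟨fun w hw g => by
    rw [mem_subgroupOf, coe_mul, coe_mul, ← cW g _ (mem_subgroupOf.1 hw), coe_inv, mul_inv_cancel_right]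
    exact hw⟩
  obtain ⟨π, hπ, k1⟩ : ∃ π : C →* C ⧸ W.subgroupOf C, Function.Surjective π ∧ ∀ g, π g = 1 ↔ (g : G) ∈ W :=
    ⟨QuotientGroup.mk' _, QuotientGroup.mk'_surjective _, fun g => QuotientGroup.eq_one_iff g⟩
  obtain ⟨B, hB⟩ : ∃ B, B = ((stabilizer G b).subgroupOf C).map π := ⟨_, rfl⟩
  have mB : ∀ g : C, π g ∈ B ↔ (g : G) • b = b := fun g => by
    rw [← mem_comap, hB, comap_map_eq_self fun (g : C) hg => mem_subgroupOf.2 (Λb ((k1 g).1 hg))]; rfl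
  have mB' : ∀ g n : C, π g ∈ MulAut.conj (π n) • B ↔ (g : G) • (n : G) • b = (n : G) • b := fun g n => by
    rw [pointwise_smul_eq_cj, mem_cj, ← map_inv, ← map_mul, ← map_mul, mB, coe_mul, coe_mul, coe_inv, mul_smul,
      mul_smul, inv_smul_eq_iff]
  obtain ⟨K, hK, hKn, hKB⟩ := Cfsg.Agent.S0035.result B ⟨fun e => xc (Λc ((k1 ⟨x, xC⟩).1
      (mem_bot.1 (e ▸ (mB _).2 hx.1)))), fun e => by
      obtain ⟨g, hg, e'⟩ := tr c Λc
      exact hbc (((mB ⟨g, hg⟩).1 (e ▸ mem_top _)).symm.trans e'), fun n hn => eq_bot_iff.2 fun g hg => by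
      obtain ⟨n, rfl⟩ := hπ n
      obtain ⟨g, rfl⟩ := hπ g
      exact (k1 g).2 ((tp (Ne.symm (mt (mB n).2 hn)) Λb (CΛ _ n.2 b Λb) _).2 ⟨(mB g).1 hg.1, (mB' g n).1 hg.2⟩)⟩
  have mK : ∀ g : C, π g ∈ K ↔ (g : G) ∈ W ∨ ∀ d : Δ, W ≤ stabilizer G d → (g : G) • d ≠ d := fun g => by
    rw [← SetLike.mem_coe, hK]
    refine or_congr (k1 g) ⟨fun e d hd e' => ?_, fun e n hn => ?_⟩
    · obtain ⟨n, hn, rfl⟩ := tr d hd
      exact e _ ((mB' g ⟨n, hn⟩).2 e')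
    · obtain ⟨n, rfl⟩ := hπ n
      exact e _ (CΛ _ n.2 b Λb) ((mB' g n).1 hn)
  have Kb : ∀ g : C, π g ∈ K → (g : G) • b = b → π g = 1 := fun g hg e =>
    (k1 g).2 (((mK g).1 hg).resolve_right fun e' => e' b Λb e)
  obtain ⟨k₀, hk₀, e₀⟩ : ∃ k : C, π k ∈ K ∧ (k : G) • b = c := by
    obtain ⟨g, hg, e⟩ := tr c Λc
    obtain ⟨⟨⟨k, hk⟩, u⟩, e', -⟩ := hKB.existsUnique (π ⟨g, hg⟩)
    obtain ⟨k, rfl⟩ := hπ k
    refine ⟨k, hk, ?_⟩
    have := (mB (k⁻¹ * ⟨g, hg⟩)).1 (by rw [map_mul, map_inv, ← e', inv_mul_cancel_left]; exact u.2)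
    rw [coe_mul, coe_inv, mul_smul, inv_smul_eq_iff] at this
    exact this.symm.trans e
  have K1 : π k₀ ≠ 1 := fun e => hbc ((Λb ((k1 _).1 e)).symm.trans e₀)
  obtain ⟨r, hr, hd⟩ := Nat.exists_prime_and_dvd (mt orderOf_eq_one_iff.1 K1)
  have hKr : IsPGroup r K := isPGroup_iff_forall_mem.2 fun k hk => ⟨1, by
    obtain ⟨k, rfl⟩ := hπ k
    by_cases e : π k = 1
    · rw [e, one_pow]
    have h1 := orderOf_pow_orderOf_div (orderOf_pos (π k₀)).ne' hd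
    have h2 := pow_mem hk₀ (orderOf (π k₀) / r)
    rw [← map_pow] at h1 h2
    generalize k₀ ^ (orderOf (π k₀) / r) = k₁ at h1 h2
    have h3 : π k₁ ≠ 1 := fun e => hr.ne_one (by rw [← h1, e, orderOf_one])
    obtain ⟨α, φ, h4, h5, h6, h7, h8, h9⟩ := αW (Ne.symm (mt (Kb _ h2) h3)) (Ne.symm (mt (Kb _ hk) e)) Λb
      (CΛ _ k₁.2 b Λb) Λb (CΛ _ k.2 b Λb)
    have h10 : π ⟨_, h8 _ k₁.2⟩ ∈ K := (mK _).2 (Or.inr fun d hd e' => by
      obtain ⟨d, rfl⟩ := φ.surjective d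
      exact ((mK _).1 h2).resolve_left (mt (k1 _).2 h3) d (h9 d hd) (h4.fix.1 e'))
    have h11 := Kb (k⁻¹ * ⟨_, h8 _ k₁.2⟩) (by rw [map_mul, map_inv]; exact mul_mem (inv_mem hk) h10) (by
      rw [coe_mul, coe_inv, mul_smul, inv_smul_eq_iff, ← h6, ← h4, h5])
    rw [map_mul, map_inv, inv_mul_eq_one] at h11
    rw [pow_one, h11, ← map_pow, k1, coe_pow, ← map_pow, h7, ← coe_pow, ← k1, map_pow, ← h1, pow_orderOf_eq_one]⟩
  have fpf : ∀ z : C, (z : G) ∈ Zc G b → π z ≠ 1 → K ⊓ centralizer {π z} ≤ ⊥ := fun z hz z1 k hk => by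
    obtain ⟨k, rfl⟩ := hπ k
    have h1 := Λb ((k1 ((k * z)⁻¹ * (z * k))).1 (by
      rw [map_mul, map_inv, map_mul, map_mul, mem_centralizer_singleton_iff.1 hk.2, inv_mul_cancel]))
    rw [mem_stabilizer_iff, coe_mul, coe_inv, mul_smul, inv_smul_eq_iff, coe_mul, coe_mul, mul_smul, mul_smul,
      show (z : G) • b = b from hz.1] at h1
    exact Kb k hk.1 (h.sr hz (fun e => z1 (by rw [show z = 1 from Subtype.ext e, map_one])) h1)
  have K0 : K ≠ ⊥ := fun e => K1 (mem_bot.1 (e ▸ hk₀))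
  have πx : π ⟨x, xC⟩ ≠ 1 := fun e => xc (Λc ((k1 _).1 e))
  have pw : ∀ z : C, (z : G) ^ p = 1 → π z ^ p ^ 1 = 1 := fun z e => by
    rw [pow_one, ← map_pow, show z ^ p = 1 from Subtype.ext e, map_one]
  have xp : x ^ p = 1 := ho ▸ pow_orderOf_eq_one x
  have := Fact.mk hr
  have hrp : r ≠ p := by
    rintro rfl
    have := inf_centralizer_ne_bot (isPGroup_zpowers (pw ⟨x, xC⟩ xp)) hKr (by rw [normalizer_eq_top]; exact le_top) K0
    rw [zpowers_eq_closure, centralizer_closure] at this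
    exact this (le_bot_iff.1 (fpf _ hx πx))
  obtain ⟨R, hR⟩ := exists_sylIn r (K.comap π)
  have hRK : R.map π = K := by
    have := hR.map π
    rw [map_comap_eq_self_of_surjective hπ] at this
    exact this.eq_of_isPGroup hKr
  have dec : ∀ k : C, π k ∈ K → ∃ ρ ∈ R, ∃ w : C, (w : G) ∈ W ∧ k = ρ * w := fun k hk => by
    obtain ⟨ρ, hρ, e⟩ := hRK.ge hk
    exact ⟨ρ, hρ, ρ⁻¹ * k, (k1 _).1 (by rw [map_mul, map_inv, e, inv_mul_cancel]), by group⟩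
  have nR : C ≤ normalizer ((R.map C.subtype : Subgroup G) : Set G) := fun g hg =>
    le_normalizer_map C.subtype ⟨⟨g, hg⟩, mem_normalizer_of_cj_le (hR.le_of_normalizes (isPGroup_cj _ hR.pgroup)
      (cj_le_of_mem_normalizer hR.le (by rw [normalizer_eq_top]; trivial)) fun k hk => by
        obtain ⟨ρ, hρ, w, hw, rfl⟩ := dec k (cj_le_of_mem_normalizer hR.le (by rw [normalizer_eq_top]; trivial) hk)
        exact mul_mem (le_normalizer hρ) (centralizer_le_normalizer _ fun a _ => Subtype.ext (cW a _ hw).symm)), rfl⟩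
  refine ⟨r, hr, hrp, R.map C.subtype, hR.pgroup.map _, (ZC b Λb).trans nR, (ZC c Λc).trans nR, ?_, fun z hz zp => ?_⟩
  · obtain ⟨ρ, hρ, w, hw, rfl⟩ := dec k₀ hk₀
    exact ⟨ρ, ⟨ρ, hρ, rfl⟩, by rwa [coe_mul, mul_smul, Λb hw] at e₀⟩
  have zC := ZC b Λb hz
  have := Fact.mk hp
  have hc : Commute (π ⟨x, xC⟩) (π ⟨z, zC⟩) := (show Commute (⟨x, xC⟩ : C) ⟨z, zC⟩ from
    Subtype.ext (hz.2 x hx.1)).map π
  have hle : zpowers (π ⟨x, xC⟩) ⊔ zpowers (π ⟨z, zC⟩) ≤ ((Zc G b).subgroupOf C).map π :=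
    sup_le (zpowers_le.2 ⟨_, hx, rfl⟩) (zpowers_le.2 ⟨_, hz, rfl⟩)
  have hA : IsMulCommutative ↥(zpowers (π ⟨x, xC⟩) ⊔ zpowers (π ⟨z, zC⟩)) := ⟨⟨fun a a' => Subtype.ext (by
    obtain ⟨u, hu, e⟩ := hle a.2
    obtain ⟨u', hu', e'⟩ := hle a'.2
    rw [coe_mul, coe_mul, ← e, ← e', ← map_mul, ← map_mul, show u * u' = u' * u from Subtype.ext (hu'.2 _ hu.1)])⟩⟩
  by_cases hcy : IsCyclic ↥(zpowers (π ⟨x, xC⟩) ⊔ zpowers (π ⟨z, zC⟩))
  · obtain ⟨i, hi⟩ := U3Ch.mem_zpowers_of_cyc (C := ↥(zpowers (π ⟨x, xC⟩) ⊔ zpowers (π ⟨z, zC⟩)))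
      (a := ⟨_, mem_sup_left (mem_zpowers _)⟩) (b := ⟨_, mem_sup_right (mem_zpowers _)⟩) (Subtype.ext (by
        rw [← orderOf_coe, orderOf_eq_prime (p := p) (by simpa using pw ⟨x, xC⟩ xp) πx]
        simpa using pw ⟨z, zC⟩ zp))
    have h1 : (x ^ i)⁻¹ * z ∈ W := (k1 ((⟨x, xC⟩ ^ i)⁻¹ * ⟨z, zC⟩)).1 (by
      rw [map_mul, map_inv, map_zpow, inv_mul_eq_one]; exact congrArg Subtype.val hi)
    refine ⟨i, inv_mul_eq_one.1 (by_contra fun e => hbc ?_)⟩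
    exact (h.sr (mul_mem (inv_mem (zpow_mem hx i)) hz) e (Λc h1)).symm
  · obtain ⟨i, hi⟩ := IsPGroup.iff_card.1 (isPGroup_sup_of_normalizes (isPGroup_zpowers (pw ⟨x, xC⟩ xp))
      (isPGroup_zpowers (pw ⟨z, zC⟩ zp)) (zpowers_le.2 (centralizer_le_normalizer _ (by
        rw [zpowers_eq_closure, centralizer_closure]; exact mem_centralizer_singleton_iff.2 hc))))
    obtain ⟨j, hj⟩ := IsPGroup.iff_card.1 hKr
    refine absurd (le_bot_iff.1 (coprime_le_of_forall_centralizer_le _ K ⊥ hcy (by rw [normalizer_eq_top]; exact le_top)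
      (by rw [hi, hj]; exact ((Nat.coprime_primes hp hr).2 hrp.symm).pow i j) fun a ha a1 => ?_)) K0
    obtain ⟨u, hu, rfl⟩ := hle ha
    exact fpf u hu a1

end Hy

end CL.FS.KL
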