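/-
Linear F-sets: action on a normal `r`-subgroup.
-/
import Cfsg.Agent.PERM.FS.Basic
import Cfsg.Agent.PLOC.PFrattini
import Cfsg.Agent.S0029

set_option autoImplicit false

namespace CL.FS

open Subgroup
open scoped commutatorElement

variable {G : Type*} [Group G] [Finite G] {p r : ℕ} {D : Set G}

namespace Qc

variable {R : Type*} [Ring R]

omit [Finite G] in
theorem L {k n : ℕ} (hr : ∀ m : R, r ^ k • m = 0) (hc : n.Coprime r) {Y T : R} (hY : Y ^ n = 1)
    (e : Y * ((Y - 1) * T) = (Y - 1) * T) : (Y - 1) * T = 0 := by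
  have h1 : ∀ i, Y ^ i * ((Y - 1) * T) = (Y - 1) * T := fun i => by
    induction i with
    | zero => simp
    | succ i ih => rw [pow_succ, mul_assoc, e, ih]
  have h2 : n • ((Y - 1) * T) = 0 := by
    have := congrArg (· * T) (geom_sum_mul Y n)
    simp only [hY, sub_self, zero_mul, mul_assoc, Finset.sum_mul, h1, Finset.sum_const, Finset.card_range] at this
    exact this
  exact AddMonoid.addOrderOf_eq_one_iff.1 (Nat.eq_one_of_dvd_coprimes (hc.pow_right k)
    (addOrderOf_dvd_of_nsmul_eq_zero h2) (addOrderOf_dvd_of_nsmul_eq_zero (hr _)))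

theorem alg {A B C x' z' : R} (z1 : z' * (1 + B) = 1) (x1 : x' * (1 + C) = 1)
    (e1 : A * ((1 + B) * C * z') * A = A * A * A) (e2 : A * (z' * C * (1 + B)) * A = A * A * A)
    (k1 : A * C * A = A * A * A) (k2 : B * C * B = B * B * B) (k3 : A * B * A = A * A * A)
    (k4 : A * B * B = A * A * B) (t1 : (1 + C) * (C * (z' * B)) = C * B) (t2 : (1 + A) * (A * (x' * C)) = A * C)
    (t3 : (1 + B) * (B * (x' * C)) = B * C) (t4 : (1 + A) * (A * (z' * B)) = A * B) :
    (1 + A) * ((1 + A) * (A * (B * C * A - A * A * A))) = A * (B * C * A - A * A * A) := by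
  have u1 : C * (z' * B) = x' * C * B := by
    linear_combination (norm := noncomm_ring) x' * t1 - x1 * (C * (z' * B))
  have u3 : B * (x' * C) = z' * B * C := by
    linear_combination (norm := noncomm_ring) z' * t3 - z1 * (B * (x' * C))
  have v : A * B * C * B * A = A * A * A * A * A := by
    linear_combination (norm := noncomm_ring) A * k2 * A + k4 * (B * A) + A * k4 * A + A * A * k3
  have p1 : A * B * C * A = A * (x' * C) * B * A + A * (z' * B) * C * B * A := by
    linear_combination (norm := noncomm_ring) e1 - k1 - A * (1 + B) * C * z1 * A + A * (1 + B) * u1 * A + A * u3 * B * A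
  have p2 : A * C * B * A = A * (z' * B) * C * A + A * (z' * B) * C * B * A := by
    linear_combination (norm := noncomm_ring) e2 - k1 - A * z1 * C * (1 + B) * A
  have q1 : (1 + A) * (A * B * C * A) = A * C * B * A + A * A * A * A * A := by
    linear_combination (norm := noncomm_ring) (1 + A) * p1 + t2 * B * A + t4 * C * B * A + v
  have q2 : (1 + A) * (A * C * B * A) = A * B * C * A + A * A * A * A * A := by
    linear_combination (norm := noncomm_ring) (1 + A) * p2 + t4 * C * A + t4 * C * B * A + v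
  linear_combination (norm := noncomm_ring) (1 + A) * q1 + q2

theorem fin {U U' V X : R} (i : U * U' = 1) (e : (U - 1) * (U' * V - 1) * (X - 1) = 0) :
    (U - 1) * (V - U) * (X - 1) = 0 := by
  linear_combination (norm := noncomm_ring) U * e - (U - 1) * i * V * (X - 1)

omit [Finite G] in
theorem main (φ : G →* R) {k : ℕ} (hr : ∀ m : R, r ^ k • m = 0) (h : IsF p r D) (hgen : closure D = ⊤)
    (rel : ∀ x ∈ D, ∀ y ∈ D, (φ x - 1) * (φ y - φ x) * (φ x - 1) = 0 ∧ (φ y - 1) * (φ x - φ y) * (φ x - 1) = 0)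
    {g : G} (hg : g ∈ commutator G) (hc : (orderOf g).Coprime r) : φ g = 1 := by
  let a : G → R := fun x => φ x - 1
  have ea : ∀ x, φ x = 1 + a x := fun x => (add_sub_cancel ..).symm
  have i1 : ∀ x, φ x⁻¹ * (1 + a x) = 1 := fun x => by rw [← ea, ← map_mul, inv_mul_cancel, map_one]
  have i2 : ∀ x, (1 + a x) * φ x⁻¹ = 1 := fun x => by rw [← ea, ← map_mul, mul_inv_cancel, map_one]
  have k1 : ∀ y ∈ D, ∀ x ∈ D, a y * a x * a y = a y * a y * a y := fun y hy x hx => by
    linear_combination (norm := (simp only [a]; noncomm_ring)) (rel y hy x hx).1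
  have k2 : ∀ y ∈ D, ∀ x ∈ D, a y * a x * a x = a y * a y * a x := fun y hy x hx => by
    linear_combination (norm := (simp only [a]; noncomm_ring)) (rel x hx y hy).2
  have k3 : ∀ y ∈ D, ∀ x ∈ D, (1 + a y) * (a y * (φ x⁻¹ * a x)) = a y * a x := fun y hy x hx => by
    linear_combination (norm := noncomm_ring) (1 + a y) * a y * (i1 x - i2 x) - k2 y hy x hx * φ x⁻¹ +
      a y * a x * i2 x
  have pw : ∀ y ∈ D, φ y ^ p = 1 := fun y hy => by rw [← map_pow, h.pow_eq hy, map_one]
  have P : ∀ y ∈ D, ∀ z ∈ D, ∀ x ∈ D, a y * (a z * a x * a y - a y * a y * a y) = 0 := fun y hy z hz x hx => by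
    have e := alg (i1 z) (i1 x) (A := a y) (by
        rw [← k1 y hy _ (h.conj x hx z)]; simp only [a, map_mul]
        linear_combination (norm := (simp only [a]; noncomm_ring)) -(a y * i2 z * a y)) (by
        rw [← k1 y hy _ (h.conj x hx z⁻¹)]; simp only [a, map_mul, inv_inv]
        linear_combination (norm := (simp only [a]; noncomm_ring)) -(a y * i1 z * a y))
      (k1 y hy x hx) (k1 z hz x hx) (k1 y hy z hz) (k2 y hy z hz) (k3 x hx z hz) (k3 y hy x hx) (k3 z hz x hx)
      (k3 y hy z hz)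
    rw [← ea] at e
    refine L hr h.cop (pw y hy) ?_
    obtain ⟨n, hn⟩ := h.pp.odd_of_ne_two h.p2
    have : ∀ i, (φ y ^ 2) ^ i * (a y * (a z * a x * a y - a y * a y * a y)) = _ := fun i => by
      induction i with
      | zero => rw [pow_zero, one_mul]
      | succ i ih => rw [pow_succ, mul_assoc, pow_two, mul_assoc, e, ← pow_two, ih]
    have := congrArg (φ y * ·) (this n)
    simp only [← mul_assoc (φ y), ← pow_mul, ← pow_succ', ← hn, pw y hy, one_mul] at this
    rw [← mul_assoc]; exact this.symm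
  have L' : ∀ z ∈ D, ∀ T, a z * (a z * T) = 0 → a z * T = 0 := fun z hz T e =>
    L hr h.cop (pw z hz) (by linear_combination (norm := (simp only [a]; noncomm_ring)) e)
  have st : ∀ z ∈ D, ∀ x ∈ D, ∀ y ∈ D, a z * ((φ x - φ y) * a y) = 0 := fun z hz x hx y hy =>
    L' z hz _ (L' z hz _ (by
      rw [ea x, ea y]
      linear_combination (norm := noncomm_ring) a z * (P y hy z hz x hx - P y hy z hz y hy) -
        k1 z hz y hy * ((a x - a y) * a y)))
  have fx : ∀ m : R, (∀ z ∈ D, a z * m = 0) → ∀ g, φ g * m = m := fun m hm g => by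
    induction hgen.ge (mem_top g) using closure_induction with
    | mem x hx => rw [ea, add_mul, hm x hx, one_mul, add_zero]
    | one => simp
    | mul x y _ _ hx hy => rw [map_mul, mul_assoc, hy, hx]
    | inv x _ hx => rw [← hx, ← mul_assoc, ← map_mul, inv_mul_cancel, map_one, one_mul, hx]
  let M : R → Prop := fun m => ∀ x ∈ D, ∀ y ∈ D, ∀ g, φ g * ((φ x - φ y) * m) = (φ x - φ y) * m
  have ad : ∀ {m m'}, M m → M m' → M (m + m') := fun h1 h2 x hx y hy g => by
    rw [mul_add, mul_add, h1 x hx y hy, h2 x hx y hy]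
  have m1 : ∀ g m, M (a g * m) := fun g => by
    induction hgen.ge (mem_top g) using closure_induction with
    | mem w hw =>
      refine fun m x hx y hy => fx _ fun z hz => ?_
      linear_combination (norm := noncomm_ring) (st z hz x hx w hw - st z hz y hy w hw) * m
    | one => exact fun m x _ y _ g => by simp [a]
    | mul x y _ _ hx hy =>
      intro m
      convert ad (hx (φ y * m)) (hy m) using 1; simp only [a, map_mul]; noncomm_ring
    | inv x _ hx =>
      intro m
      convert hx (-(φ x⁻¹ * m)) using 1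
      linear_combination (norm := (simp only [a]; noncomm_ring)) i2 x * m
  have m2 : ∀ g m, M m → M (φ g * m) := fun g m hm => by
    convert ad hm (m1 g m) using 1; simp only [a]; noncomm_ring
  let K : Subgroup G :=
    { carrier := {g | ∀ m, M m → ∀ k, φ k * (a g * m) = a g * m}
      one_mem' := fun m _ k => by simp [a]
      mul_mem' := fun {x y} hx hy m hm k => by
        rw [show a (x * y) * m = φ x * (a y * m) + a x * m by simp only [a, map_mul]; noncomm_ring, hy m hm, mul_add,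
          hy m hm, hx m hm]
      inv_mem' := fun {x} hx m hm k => by
        rw [show a x⁻¹ * m = -(φ x⁻¹ * (a x * m)) by
          linear_combination (norm := (simp only [a]; noncomm_ring)) i1 x * m, hx m hm, mul_neg, hx m hm] }
  have nK : K.Normal := ⟨fun x hx y m hm k => by
    rw [show a (y * x * y⁻¹) * m = φ y * (a x * (φ y⁻¹ * m)) by
      linear_combination (norm := (simp only [a, map_mul]; noncomm_ring)) i2 y * m, hx _ (m2 _ m hm), hx _ (m2 _ m hm)]⟩
  have gK : g ∈ K := RR_le_of_inv_mul (Y := D) (le_top.trans (normalizer_eq_top K).ge) (fun x hx y hy m hm k => by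
    rw [show a (x⁻¹ * y) * m = φ x⁻¹ * ((φ y - φ x) * m) by
      linear_combination (norm := (simp only [a, map_mul]; noncomm_ring)) i1 x * m, hm y hy x hx, hm y hy x hx])
    (by rwa [RR, hgen])
  have o : φ g ^ orderOf g = 1 := by rw [← map_pow, pow_orderOf_eq_one, map_one]
  have := L hr hc o (T := 1) (by
    linear_combination (norm := (simp only [a]; noncomm_ring)) L hr hc o (gK _ (m1 g 1) g))
  rwa [mul_one, sub_eq_zero] at this

end Qc

/-- The `r'`-elements of `G'` centralise every normal `r`-subgroup `Q`.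

PROOF.  Let `M = Additive (Abelianization Q)` with the action of `G` by conjugation, `X ∈ End M` the image of `x ∈ D`, `a_x = X - 1`.
(1) Relations for `x, y ∈ D`: (i) `a_x (X - Y) a_x = 0`, (ii) `a_y (X - Y) a_x = 0`.  Let `K = ⟨x,y⟩ ⊔ Q`; `K' ≤ RR{x,y} ⊔ Q` is an
`r`-group (`RR_le_of_inv_mul` or: modulo `Q`), so `J = D ∩ K` is a `Sub` (`sub_inter`) containing `x, y, q x q⁻¹`.  For `q ∈ Q`,
`v = x q x⁻¹ q⁻¹ = (x (q x q⁻¹)⁻¹) ∈ RR J ∩ Q` and `w = x⁻¹ y`, `w' = y⁻¹ x ∈ RR J`; `⁅w, v⁆, ⁅w', v⁆ ∈ EE J ∩ Q` (`Sub.comm_RR`) are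
centralised by `x` and `y`.  So `a_x (X⁻¹Y - 1) a_x = 0`, `a_y (Y⁻¹X - 1) a_x = 0`; multiply by `X`, resp. `Y`.
(2) If `m ∈ im a_y` and `Y² m = m` then `m = 0`: `⟨y²⟩ = ⟨y⟩` gives `Y m = m`; with `N = 1 + Y + … + Y^(p-1)`, `N a_y = Y^p - 1 = 0`
and `N m = p m`, and `M` is an `r`-group.
(3) For `x, y, z ∈ D` put `P = a_y a_z a_x a_y`, `P' = a_y a_x a_z a_y`.  (ii) says `Y a_y a_z = a_y Z a_z`, hence also
`Y⁻¹ a_y a_z = a_y Z⁻¹ a_z`, for all pairs; (i) says `a_y a_x a_y = a_y³`.  Apply (i) to the pairs `(y, z x z⁻¹)` and `(y, z⁻¹ x z)`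
(`a_{z x z⁻¹} = Z a_x Z⁻¹`, `Z = 1 + a_z`, `Z⁻¹ = 1 - Z⁻¹ a_z`): `Y P = P' + a_y⁵` and `Y P' = P + a_y⁵`.  So
`(Y² - 1)(P - a_y⁴) = 0`, and (2) gives `P = a_y⁴`.  With `x = y` also `a_y a_z a_y a_y = a_y⁴`, so `a_y a_z (X - Y) a_y = 0`; `a_y` is
injective on `im a_z` (`a_z a_y a_z = a_z³` and (2)), so  (*) `a_z (X - Y) a_y = 0` for all `x, y, z ∈ D`.
(4) Fix `y ∈ D` (if `D = ∅`, `G` is trivial), `C = ⋂ ker a_z = C_M(G)`, `M₁ = C + im a_y`.  `im a_x = a_x (im a_x)` ((2), finiteness) and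
(*) give `im a_x ≤ M₁`; so `G` acts trivially on `M/M₁` and on `C`, and `{g | (g - 1) M₁ ≤ C}` is a normal subgroup containing all
`x⁻¹ x'`, hence `G'` (`RR_le_of_inv_mul`).  So `(g - 1)³ = 0` on `M` for `g ∈ G'`; for `g` of order prime to `r` this gives `g = 1`
on `M` (`(g-1)² m = 0 ⇒ m = g^n m = m + n (g-1) m`).  So `[Q, g] ≤ Q'`; `Q = [Q,g] C_Q(g) = Q' C_Q(g)` (S0026) and `Q' ≤ Φ(Q)`. -/
theorem IsF.cen_coprime (h : IsF p r D) (hn : NA D) (hgen : closure D = ⊤) {Q : Subgroup G} [Q.Normal]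
    (hQ : IsPGroup r Q) {g : G} (hg : g ∈ commutator G) (hc : (orderOf g).Coprime r) :
    g ∈ centralizer (Q : Set G) := by
  have := Fact.mk h.rp
  let c : G →* MulAut Q := MulAut.conjNormal
  let φ : G →* AddMonoid.End (Additive (Abelianization Q)) :=
    { toFun := fun g => MonoidHom.toAdditive (Abelianization.map (c g).toMonoidHom)
      map_one' := by rw [map_one]; exact congrArg _ Abelianization.map_id
      map_mul' := fun a b => by rw [map_mul]; exact congrArg _ (Abelianization.map_comp (c b).toMonoidHom (c a).toMonoidHom).symm }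
  let π : Q → Additive (Abelianization Q) := fun q => .ofMul (Abelianization.of q)
  have sj : ∀ m, ∃ q, π q = m := fun m => QuotientGroup.mk_surjective m.toMul
  have ap : ∀ g q, (φ g - 1) (π q) = π (c g q * q⁻¹) := fun g q => by
    simp only [π, map_mul, map_inv, ofMul_mul, ofMul_inv, ← sub_eq_add_neg]; rfl
  obtain ⟨k, hk⟩ := hQ.exists_card_eq
  have key : ∀ x ∈ D, ∀ y ∈ D, ∀ u ∈ ({x, y} : Set G), ∀ v ∈ ({x, y} : Set G),
      (φ u - 1) * (φ v - φ u) * (φ x - 1) = 0 := fun x hx y hy u hu v hv => by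
    obtain ⟨l1, l2⟩ := h.sub_line hx hy
    have hJ := (h.sub_of_inv hx ((h.pg x hx y hy).to_sup_of_normal_right hQ) (normalizer_le_normalizer_sup_normal
      (l2 ▸ l1.mem_nrm_RR h ⟨hx, subset_closure (.inl rfl)⟩))).1
    have mx : x ∈ RR {x, y} ⊔ Q ⊔ zpowers x := mem_sup_right (mem_zpowers x)
    have mJ : ∀ u ∈ ({x, y} : Set G), u ∈ D ∩ (RR {x, y} ⊔ Q ⊔ zpowers x : Subgroup G) := by
      rintro _ (rfl | rfl)
      exacts [⟨hx, mx⟩, ⟨hy, (mul_mem_cancel_left (inv_mem mx)).1 (mem_sup_left (mem_sup_left (h.mem x hx _ hy)))⟩]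
    have e : (φ u - 1) * (φ (u⁻¹ * v) - 1) * (φ x - 1) = 0 := AddMonoidHom.ext fun m => by
      obtain ⟨q, rfl⟩ := sj m
      have m1 := mJ x (.inl rfl)
      have mq : (q : G) ∈ RR {x, y} ⊔ Q ⊔ zpowers x := mem_sup_left (mem_sup_right q.2)
      have m3 := conj_mem_of_nrm (hJ.mem_nrm_RR h m1) (inv_mem (h.inv_mul_mem hJ.sub m1
        ⟨h.conj x hx q, mul_mem (mul_mem mq mx) (inv_mem mq)⟩))
      rw [show x * (x⁻¹ * (q * x * (q : G)⁻¹))⁻¹ * x⁻¹ = x * q * x⁻¹ * (q : G)⁻¹ by group] at m3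
      have := (hJ.comm_mem h hn (h.inv_mul_mem hJ.sub (mJ u hu) (mJ v hv)) m3).2 u (mJ u hu)
      change (φ u - 1) ((φ (u⁻¹ * v) - 1) ((φ x - 1) (π q))) = 0
      rw [ap, ap, ap, mul_inv_eq_one.2 (Subtype.ext (mul_inv_eq_iff_eq_mul.2 this))]
      rfl
    exact Qc.fin (by rw [← map_mul, mul_inv_cancel, map_one]) (map_mul φ u⁻¹ v ▸ e)
  have e := Qc.main φ (k := k) (fun m => AddMonoidHom.ext fun a => by
      obtain ⟨q, e⟩ := sj (m a)
      change r ^ k • m a = 0
      rw [← e, ← ofMul_pow, ← map_pow, ← hk, pow_card_eq_one', map_one]; rfl) h hgen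
    (fun x hx y hy => ⟨key x hx y hy x (.inl rfl) y (.inr rfl), key x hx y hy y (.inr rfl) x (.inl rfl)⟩) hg hc
  refine Cfsg.Agent.S0029.result (zpowers g) Q (le_top.trans (normalizer_eq_top Q).ge) ?_ (fun a ha q hq => ?_)
    (mem_zpowers g)
  · obtain ⟨n, hn⟩ := (hQ.to_subgroup (frattini Q)).exists_card_eq
    rw [Nat.card_zpowers, hn]; exact hc.pow_right n
  · have := ap a ⟨q, hq⟩
    rw [show φ a = 1 from zpowers_le (H := φ.ker).2 e ha, sub_self] at this
    exact ⟨_, PG.commutator_le_frattini hQ ((QuotientGroup.eq_one_iff _).1 this.symm), rfl⟩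

end CL.FS
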