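/-
Linear F-sets: reduction to the minimal counterexample.
-/
import Cfsg.Agent.PERM.FS.QC
import Cfsg.Agent.SIG.Bender

set_option autoImplicit false

namespace CL.FS

open Subgroup

universe u

namespace Mn

open Cfsg CL.MSS CL.PComp

variable {G : Type*} [Group G] [Finite G] {p r : ℕ} {D : Set G}

theorem exists_elt {H : Subgroup G} (h : ¬ IsPGroup r H) : ∃ s : ℕ, s.Prime ∧ s ≠ r ∧ ∃ g ∈ H, orderOf g = s := by
  by_contra! n
  refine h (IsPGroup.of_card (Nat.eq_prime_pow_of_unique_prime_dvd Nat.card_pos.ne' fun {d} hd e => by_contra fun ne => ?_))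
  have := Fact.mk hd
  obtain ⟨g, hg⟩ := exists_prime_orderOf_dvd_card' d e
  exact n d hd ne g g.2 ((orderOf_coe g).trans hg)

theorem nrm_core (K : Subgroup G) [K.Normal] : (pCoreOf r K).Normal :=
  normalizer_eq_top_iff.1 (top_le_iff.1 ((normalizer_eq_top K).ge.trans (normalizer_le_normalizer_pCoreOf r K)))

omit [Finite G] in
theorem eq_one {H : Subgroup G} (hH : IsPGroup r H) {g : G} (hg : g ∈ H) (hc : (orderOf g).Coprime r) : g = 1 := by
  obtain ⟨n, hn⟩ := hH ⟨g, hg⟩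
  exact orderOf_eq_one_iff.1 ((hc.pow_right n).eq_one_of_dvd (orderOf_dvd_of_pow_eq_one (congrArg Subtype.val hn)))

theorem simple_aux {N : Subgroup G} [N.Normal] (F1 : ∀ K : Subgroup G, K.Normal → K = ⊥ ∨ N ≤ K) (hr : ¬ IsPGroup r N)
    {x : G} (hx : N ⊔ zpowers x = ⊤) (hp : ∀ g, ∃ n, (x⁻¹ * (g * x * g⁻¹)) ^ r ^ n = 1) : IsSimpleGroup N := by
  have : Nontrivial N := (nontrivial_iff_ne_bot _).2 fun e => hr (e ▸ IsPGroup.of_bot)
  refine ⟨fun J₁ h1 => or_iff_not_imp_left.2 fun ne => ?_⟩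
  obtain ⟨J, ⟨j1, j2, j3⟩, mn⟩ := exists_minimal_of_wellFoundedLT
    (fun J : Subgroup G => J ≤ J₁.map N.subtype ∧ J ≠ ⊥ ∧ N ≤ normalizer (J : Set G))
    ⟨_, le_rfl, fun e => ne ((map_eq_bot_iff_of_injective _ N.subtype_injective).1 e), fun g hg =>
      mem_normalizer_of_cj_le (cj_le_iff_forall.2 (by rintro _ ⟨y, hy, rfl⟩; exact ⟨_, h1.conj_mem y hy ⟨g, hg⟩, rfl⟩))⟩
  have JN := j1.trans (map_subtype_le _)
  by_cases e : x ∈ normalizer (J : Set G)
  · refine top_le_iff.1 fun g _ => ?_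
    obtain ⟨y, hy, e'⟩ := ((F1 J (normalizer_eq_top_iff.1 (top_le_iff.1 (hx.ge.trans (sup_le j3
      (zpowers_le.2 e)))))).resolve_left j2).trans j1 g.2
    exact Subtype.ext e' ▸ hy
  have n2 : N ≤ normalizer ((x⁻¹ •ᶜ J : Subgroup G) : Set G) := fun g hg =>
    mem_normalizer_of_cj_le (cj_le_iff_forall.2 fun a ha => mem_cj.2 (by
      convert (mem_normalizer_iff.1 (j3 (‹N.Normal›.conj_mem g hg x)) _).1 (mem_cj.1 ha) using 1; group))
  have I : J ⊓ x⁻¹ •ᶜ J = ⊥ := by_contra fun n => e (inv_mem_iff.1 (mem_normalizer_iff_cj.2 (eq_of_le_of_card_ge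
    ((mn ⟨inf_le_left.trans j1, n, (le_inf j3 n2).trans inf_normalizer_le_normalizer_inf⟩ inf_le_left).trans inf_le_right)
    (card_cj _ _).le).symm))
  have pJ : IsPGroup r J := fun j => by
    have a : x⁻¹ * j * x⁻¹⁻¹ ∈ x⁻¹ •ᶜ J := conj_mem_cj j.2
    have aN := ‹N.Normal›.conj_mem _ (JN j.2) x⁻¹
    have c : Commute (x⁻¹ * j * x⁻¹⁻¹) (j : G)⁻¹ := commutatorElement_eq_one_iff_commute.1 (mem_bot.1 (I.le <| mem_inf.2 ⟨by
        rw [commutatorElement_def]
        exact mul_mem ((mem_normalizer_iff.1 (j3 aN) _).1 (inv_mem j.2)) (inv_mem (inv_mem j.2)), by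
        rw [commutatorElement_def, mul_assoc, mul_assoc, ← mul_assoc (j : G)⁻¹]
        exact mul_mem a ((mem_normalizer_iff.1 (n2 (inv_mem (JN j.2))) _).1 (inv_mem a))⟩))
    obtain ⟨n, hn⟩ := hp j
    rw [show x⁻¹ * (j * x * (j : G)⁻¹) = x⁻¹ * j * x⁻¹⁻¹ * (j : G)⁻¹ by group, c.mul_pow, inv_pow, mul_inv_eq_one] at hn
    exact ⟨n, Subtype.ext (mem_bot.1 (I.le (mem_inf.2 ⟨pow_mem j.2 _, by rw [coe_pow, ← hn]; exact pow_mem a _⟩)))⟩
  rcases F1 _ (nrm_core (r := r) N) with e | e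
  · exact absurd (le_bot_iff.1 ((le_pCoreOf JN j3 pJ).trans e.le)) j2
  · exact absurd ((pCoreOf_isPGroup r N).to_le e) hr

omit [Finite G] in
theorem sub (h : IsF p r D) (hn : NA D) (hq : SQ r D) (K : Subgroup G) :
    IsF p r (K.subtype ⁻¹' D) ∧ NA (K.subtype ⁻¹' D) ∧ SQ r (K.subtype ⁻¹' D) := by
  have e : ∀ x y : K, RR {x, y} = (RR {x.1, y.1}).comap K.subtype := fun x y => by
    rw [← comap_map_eq_self_of_injective K.subtype_injective (RR {x, y}), RR_pair_map]; rfl
  refine ⟨⟨h.pp, h.p2, h.rp, h.ne, fun x hx => (orderOf_coe x).symm.trans (h.ord x hx), fun x hx g => h.conj x hx g,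
    fun x hx y hy => e x y ▸ (h.pg x hx y hy).comap_subtype, fun x hx y hy => e x y ▸ h.mem x hx y hy⟩,
    fun x hx y hy c => Subtype.ext (hn x hx y hy ?_), fun r2 x hx y hy ρ hρ e' =>
      Subtype.ext (hq r2 x hx y hy ρ (by rwa [e] at hρ) (congrArg Subtype.val e'))⟩
  exact (RR_pair_map K.subtype x y).symm ▸ map_isMulCommutative _ _

omit [Finite G] in
theorem quo (h : IsF p r D) (hn : NA D) (hq : SQ r D) {H : Type*} [Group H] (f : G →* H) (hf : Function.Surjective f)
    (h1 : ∀ x ∈ D, f x ≠ 1) (h2 : ∀ g, f g = 1 → (orderOf g).Coprime r) :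
    IsF p r (f '' D) ∧ NA (f '' D) ∧ SQ r (f '' D) := by
  have := Fact.mk h.pp
  refine ⟨⟨h.pp, h.p2, h.rp, h.ne, ?_, ?_, ?_, ?_⟩, ?_, ?_⟩
  · rintro _ ⟨x, hx, rfl⟩
    exact orderOf_eq_prime (by rw [← map_pow, ← h.ord x hx, pow_orderOf_eq_one, map_one]) (h1 x hx)
  · rintro _ ⟨x, hx, rfl⟩ g
    obtain ⟨g, rfl⟩ := hf g
    exact ⟨_, h.conj x hx g, by simp⟩
  · rintro _ ⟨x, hx, rfl⟩ _ ⟨y, hy, rfl⟩
    exact RR_pair_map f x y ▸ (h.pg x hx y hy).map f
  · rintro _ ⟨x, hx, rfl⟩ _ ⟨y, hy, rfl⟩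
    exact RR_pair_map f x y ▸ ⟨_, h.mem x hx y hy, by simp⟩
  · rintro _ ⟨x, hx, rfl⟩ _ ⟨y, hy, rfl⟩ c
    rw [← RR_pair_map] at c
    refine congrArg f (hn x hx y hy ⟨⟨fun a b => Subtype.ext (mul_inv_eq_one.1 ?_)⟩⟩)
    refine eq_one (h.pg x hx y hy) (mul_mem (mul_mem a.2 b.2) (inv_mem (mul_mem b.2 a.2))) (h2 _ ?_)
    rw [map_mul, map_inv, mul_inv_eq_one, coe_mul, coe_mul, map_mul, map_mul]
    exact congrArg Subtype.val (c.1.1 ⟨_, mem_map_of_mem f a.2⟩ ⟨_, mem_map_of_mem f b.2⟩)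
  · rintro r2 _ ⟨x, hx, rfl⟩ _ ⟨y, hy, rfl⟩ ρ hρ e
    rw [← RR_pair_map] at hρ
    obtain ⟨ρ, hρ, rfl⟩ := hρ
    rw [← map_mul, ← map_mul, hq r2 x hx y hy ρ hρ (eq_one (h.pg x hx y hy) (mul_mem hρ hρ) (h2 _ ((map_mul ..).trans e)))]

variable (h : IsF p r D) (hn : NA D) (gen : closure D = ⊤) (bad : ¬ IsPGroup r (commutator G))
include h gen

omit [Finite G] h in
theorem le_of {K : Subgroup G} [K.Normal] (hm : ∀ x ∈ D, ∀ y ∈ D, x⁻¹ * y ∈ K) : commutator G ≤ K := by
  have := RR_le_of_inv_mul (Y := D) (K := K) (le_top.trans (normalizer_eq_top K).ge) hm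
  rwa [RR, gen] at this

omit [Finite G] h in
theorem cen_of {K : Subgroup G} (hm : ∀ x ∈ D, x ∈ centralizer (K : Set G)) : K ≤ center G :=
  centralizer_eq_top_iff_subset.1 (top_le_iff.1 (gen.ge.trans ((closure_le _).2 hm)))

include bad

theorem not_nil : ¬ Group.IsNilpotent (commutator G) := fun hN => by
  have := Fact.mk h.rp
  have := nrm_core (r := r) (commutator G)
  exact bad ((pCoreOf_isPGroup r _).to_le (le_of gen fun x hx y hy => Comp.le_pCoreOf_of_le_nilpotent hN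
    (zpowers_le.2 (RR_le_commutator _ (h.mem x hx y hy))) ((h.pg x hx y hy).to_le (zpowers_le.2 (h.mem x hx y hy)))
    (mem_zpowers _)))

omit [Finite G] in
theorem not_cen {x : G} (hx : x ∈ D) : x ∉ center G := fun c => bad (IsPGroup.of_bot.to_le (le_of gen fun a ha b hb => by
  rw [h.eq_of_comm ha hx (mem_center_iff.1 c a), h.eq_of_comm hb hx (mem_center_iff.1 c b), inv_mul_cancel]
  exact one_mem _))

omit bad gen [Finite G] in
theorem conj_eq {x g : G} (hx : x ∈ D) (e : x⁻¹ * (g * x * g⁻¹) ∈ center G) : x * g = g * x := by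
  have := mem_center_iff.1 e x
  rw [mul_inv_cancel_left, eq_comm, mul_assoc, inv_mul_eq_iff_eq_mul] at this
  exact (mul_inv_eq_iff_eq_mul.1 (h.eq_of_comm (h.conj x hx g) hx this)).symm

variable (prop : ∀ Y : Set G, Y ⊆ D → closure Y ≠ ⊤ → IsPGroup r (RR Y))
include prop

omit bad [Finite G] in
theorem sup {K : Subgroup G} [hK : K.Normal] (h1 : pCoreOf r K ≤ center G) (h2 : ¬ K ≤ center G) :
    ∃ x ∈ D, K ⊔ zpowers x = ⊤ := by
  by_contra! n
  refine h2 (cen_of gen fun x hx k hk => (conj_eq h hx (h1 ?_)).symm)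
  let Y : Set G := {y | ∃ k ∈ K, k * x * k⁻¹ = y}
  have hY : Y ⊆ D := by rintro _ ⟨k, -, rfl⟩; exact h.conj x hx k
  have nY : K ≤ normalizer Y := fun g hg => mem_set_normalizer_iff.2 fun y => ⟨by
      rintro ⟨k, hk, rfl⟩; exact ⟨_, mul_mem hg hk, by group⟩, fun ⟨k, hk, e⟩ =>
    ⟨_, mul_mem (inv_mem hg) hk, by rw [mul_inv_rev, mul_assoc, mul_assoc, ← mul_assoc x, ← mul_assoc k, ← mul_assoc k, e]; group⟩⟩
  refine le_pCoreOf (N := RR Y ⊓ K) inf_le_right ((le_inf (nY.trans (nrm_le_nrm_RR Y)) le_normalizer).trans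
    inf_normalizer_le_normalizer_inf) ((prop Y hY fun e => n x hx (top_le_iff.1 (e.ge.trans ((closure_le _).2 ?_)))).to_le
      inf_le_left) (mem_inf.2 ⟨h.inv_mul_mem hY ⟨1, one_mem _, by group⟩ ⟨k, hk, rfl⟩, ?_⟩)
  · rintro _ ⟨k, hk, rfl⟩
    exact mul_mem (mul_mem (mem_sup_left hk) (mem_sup_right (mem_zpowers x))) (inv_mem (mem_sup_left hk))
  · convert mul_mem (hK.conj_mem k hk x⁻¹) (inv_mem hk) using 1; group

omit h gen bad prop [Finite G] in
theorem dec {K : Subgroup G} [hK : K.Normal] {x : G} (e : K ⊔ zpowers x = ⊤) (g : G) : x⁻¹ * (g * x * g⁻¹) ∈ K := by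
  obtain ⟨k, hk, _, ⟨i, rfl⟩, rfl⟩ := mem_sup_of_normal_left.1 (e.ge (mem_top g))
  convert mul_mem (hK.conj_mem k hk x⁻¹) (inv_mem hk) using 1
  simp only; group

include hn

theorem le_center (zr : IsPGroup r (center G)) {Q : Subgroup G} [hQ : Q.Normal] (pQ : IsPGroup r Q) :
    Q ≤ center G := by
  have ab : ∀ A : Subgroup G, A.Normal → A ≤ centralizer (A : Set G) → A ≤ center G := fun A hA e =>
    cen_of gen fun x hx => h.cen_of_ab hn hx ⟨⟨fun a b => Subtype.ext (e b.2 a a.2)⟩⟩ ((normalizer_eq_top A).ge (mem_top x))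
  let K := closure {g | g ∈ commutator G ∧ (orderOf g).Coprime r}
  have nK : K.Normal := ⟨fun n hn g => by
    induction hn using closure_induction with
    | mem x hx => exact subset_closure ⟨Normal.conj_mem inferInstance x hx.1 g, by
        rw [← MulAut.conj_apply, MulEquiv.orderOf_eq]; exact hx.2⟩
    | one => simp
    | mul a b _ _ ha hb => exact conj_mul (a := a) ▸ mul_mem ha hb
    | inv a _ ha => exact conj_inv (a := a) ▸ inv_mem ha⟩
  have cK : ∀ Q : Subgroup G, Q.Normal → IsPGroup r Q → K ≤ centralizer (Q : Set G) := fun Q _ pQ =>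
    (closure_le _).2 fun g hg => h.cen_coprime hn gen pQ hg.1 hg.2
  obtain ⟨x, hx, e⟩ := sup h gen prop (K := K)
    (ab _ (nrm_core K) ((pCoreOf_le r K).trans (cK _ (nrm_core K) (pCoreOf_isPGroup r K)))) fun e => by
      obtain ⟨s, hs, ne, g, hg, o⟩ := exists_elt bad
      have c : (orderOf g).Coprime r := o ▸ (Nat.coprime_primes hs h.rp).2 ne
      rw [eq_one zr (e (subset_closure ⟨hg, c⟩)) c, orderOf_one] at o
      exact hs.one_lt.ne o
  have xQ : x ∈ centralizer (Q : Set G) := fun q hq => (conj_eq h hx (ab (Q ⊓ centralizer (Q : Set G)) inferInstance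
    (inf_le_right.trans (centralizer_le inf_le_left)) <| mem_inf.2 ⟨by
      convert mul_mem (hQ.conj_mem q hq x⁻¹) (inv_mem hq) using 1; group, cK Q hQ pQ (dec e q)⟩)).symm
  refine cen_of gen fun y hy => ?_
  obtain ⟨ρ, -, rfl⟩ := h.exists_conj hx hy
  exact Normal.conj_mem inferInstance x xQ ρ

theorem nrm (zr : IsPGroup r (center G)) (K : Subgroup G) (hK : K.Normal) : K ≤ center G ∨ commutator G ≤ K :=
  or_iff_not_imp_left.2 fun n => by
    have := nrm_core (r := r) K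
    obtain ⟨x, hx, e⟩ := sup h gen prop (le_center h hn gen bad prop zr (pCoreOf_isPGroup r K)) n
    refine le_of gen fun a ha b hb => ?_
    obtain ⟨ρ, -, rfl⟩ := h.exists_conj hx ha
    obtain ⟨σ, -, rfl⟩ := h.exists_conj hx hb
    convert mul_mem (inv_mem (dec e ρ)) (dec e σ) using 1; group

end Mn

/-- A counterexample gives a minimal counterexample.

PROOF.  Strong induction on `Nat.card G` (over all `G : Type u` and all `D`).  `IsF`, `NA`, `SQ` pass to `(K, K.subtype ⁻¹' D)` for a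
subgroup `K` (`RR_pair_map`, injectivity).  Assume no smaller group carries a counterexample.
(1) `prop`: for `Y ⊆ D` with `K = closure Y ≠ ⊤` apply minimality to `K`; with `Y = D` this gives `gen`; then `RR D = commutator G`, `bad`.
`D` has two points (else `G` is cyclic) and no point is central (`IsF.eq_of_comm`); `D` is one class (`IsF.exists_conj`).
(2) `zr`: else take `Z₁ ≤ Z(G)` of prime order `s ≠ r`; the image of `D` in `G/Z₁` satisfies `IsF, NA, SQ` (`x ∉ Z₁`; `RR{x,y} ∩ Z₁ = 1`), so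
`(G/Z₁)'` is an `r`-group; its preimage `W` is `P Z₁` with `P` Sylow `r` in `W`, normal in `W`, hence in `G`, and contains all `x⁻¹ y`, so
`G' ≤ P` (`RR_le_of_inv_mul`).
(3) Abelian normal subgroups are central (`IsF.cen_of_ab`).  For `K` normal and `x ∈ D` put `Y = {k x k⁻¹ | k ∈ K}`.  (a) If `closure Y = ⊤` then
`K ⊔ ⟨x⟩ = ⊤`.  (b) Otherwise `[K, ⟨x⟩] ≤ RR Y` is an `r`-group normal in `K`, so it lies in `O_r(K)`, which is normal in `G`.
(4) Normal `r`-subgroups `Q` are central.  Let `K` be generated by the `r'`-elements of `G'`: normal, centralises all normal `r`-subgroups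
(`IsF.cen_coprime`), so `O_r(K)` is abelian, so central.  `K ≰ Z(G)` (else by `zr` `G'` has no nontrivial `r'`-element and is an `r`-group).  In case (b)
`x⁻¹ k x k⁻¹` is central, so `k x k⁻¹ = x`; if this holds for all `x ∈ D`, `K` is central.  So (a) holds for some `x`: for `q ∈ Q`, `q = k x^i`,
`q x q⁻¹ = k x k⁻¹` acts on `Q` as `x` does, so `x⁻¹ q x q⁻¹ ∈ Q ∩ C(Q)`, abelian normal, central, so `q x q⁻¹ = x`.  `C(Q)` is normal and
contains `x`, so all of `D`.
(5) `nrm`: if `K ≰ Z(G)`, some `x ∈ D` does not centralise `K`, (b) is impossible by (4), and (a) makes `G/K` cyclic.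
(6) `perf`: `N = G'`; if `N' ≤ Z(G)` then `N` is nilpotent, its Sylow `r`-subgroup is normal in `G` and contains all `x⁻¹ y`.
(7) `simple`: `N̄ = (G/Z)'` is non-trivial and every normal subgroup of `G/Z` is trivial or contains it.  Let `J` be a minimal normal subgroup of `N̄`,
`J ≠ N̄`.  `G/Z = N̄⟨x̄⟩`, so `J^x̄ ≠ J`, so `J ∩ J^x̄ = 1` and they commute; for `j ∈ J`, `x̄⁻¹ (j x̄ j⁻¹) = (x̄⁻¹ j x̄) j⁻¹` is an `r`-element, so `j` is.
Thus `1 ≠ J ≤ O_r(N̄)`, whose preimage in `G` is a normal `r`-subgroup (`zr`), central by (4): contradiction.  So the only minimal normal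
subgroup of `N̄` is `N̄`. -/
theorem exists_st {G : Type u} [Group G] [Finite G] {p r : ℕ} {D : Set G} (h : IsF p r D) (hn : NA D) (hq : SQ r D)
    (hb : ¬ IsPGroup r (RR D)) : ∃ (G' : Type u) (_ : Group G') (_ : Finite G') (D' : Set G'), St p r D' := by
  induction hc : Nat.card G using Nat.strong_induction_on generalizing G with
  | _ n ih =>
  by_contra no
  have mn : ∀ (H : Type u) [Group H] [Finite H] (E : Set H), Nat.card H < n → IsF p r E ∧ NA E ∧ SQ r E →
      IsPGroup r (RR E) := fun H _ _ E l e => by_contra fun b => no (ih _ l e.1 e.2.1 e.2.2 b rfl)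
  have prop : ∀ Y : Set G, Y ⊆ D → closure Y ≠ ⊤ → IsPGroup r (RR Y) := fun Y hY ne => by
    have := (mn (closure Y) _ (hc ▸ Finite.card_subtype_lt (not_forall.1 fun e => ne (eq_top_iff.2 fun x _ => e x)).choose_spec)
      (Mn.sub h hn hq _)).map (closure Y).subtype
    rw [RR_map] at this
    exact this.to_le (RR_mono fun y hy => ⟨⟨y, subset_closure hy⟩, hY hy, rfl⟩)
  have gen : closure D = ⊤ := by_contra fun e => hb (prop D le_rfl e)
  have eD : RR D = commutator G := by rw [RR, gen]; rfl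
  have bad : ¬ IsPGroup r (commutator G) := eD ▸ hb
  have := Fact.mk h.rp
  have zr : IsPGroup r (center G) := by_contra fun b => by
    obtain ⟨s, hs, ne, z, hz, o⟩ := Mn.exists_elt b
    have le := zpowers_le.2 hz
    have : (zpowers z).Normal := ⟨fun a ha g => by rwa [mem_center_iff.1 (le ha) g, mul_inv_cancel_right]⟩
    have := mn _ _ (by
        rw [← hc, ← (zpowers z).index_mul_card, Nat.card_zpowers, o]
        exact lt_mul_of_one_lt_right Nat.card_pos hs.one_lt)
      (Mn.quo h hn hq (QuotientGroup.mk' (zpowers z)) (QuotientGroup.mk'_surjective _)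
        (fun x hx e => Mn.not_cen h gen bad hx (le ((QuotientGroup.eq_one_iff x).1 e))) fun g e =>
          ((Nat.coprime_primes hs h.rp).2 ne).coprime_dvd_left
            (o ▸ orderOf_dvd_of_mem_zpowers ((QuotientGroup.eq_one_iff g).1 e)))
    rw [← RR_map, eD] at this
    have := this.isNilpotent
    exact Mn.not_nil h gen bad (Subgroup.isNilpotent_of_ker_le_center
      ((QuotientGroup.mk' (zpowers z)).subgroupMap (commutator G)) fun a ha => mem_center_iff.2 fun b =>
        Subtype.ext (mem_center_iff.1 (le ((QuotientGroup.eq_one_iff a.1).1 (congrArg Subtype.val ha))) b))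
  have nrm := Mn.nrm h hn gen bad prop zr
  have em : (commutator G).map (QuotientGroup.mk' (center G)) = commutator (G ⧸ center G) := by
    rw [_root_.commutator_def, map_commutator, map_top_of_surjective _ (QuotientGroup.mk'_surjective _)]; rfl
  obtain ⟨x, hx⟩ : D.Nonempty := Set.nonempty_iff_ne_empty.2 fun e => hb (by
    rw [e, RR, Subgroup.closure_empty, commutator_bot_left]; exact IsPGroup.of_bot)
  refine no ⟨G, _, ‹_›, D, ⟨h, hn, hq, gen, bad, prop, zr, nrm, le_antisymm (commutator_le_left _ _)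
    ((nrm _ inferInstance).resolve_left fun e => Mn.not_nil h gen bad (Subgroup.isNilpotent_of_ker_le_center
      (Abelianization.of (G := commutator G)) fun a ha => mem_center_iff.2 fun b => Subtype.ext
        (mem_center_iff.1 (e ?_) b))),
    Mn.simple_aux (r := r) (x := QuotientGroup.mk' _ x) (fun K hK => (nrm _ (hK.comap (QuotientGroup.mk' _))).imp
      (fun e => eq_bot_iff.2 fun a ha => ?_) fun e => em ▸ map_le_iff_le_comap.2 e) (fun e => bad ?_) ?_ fun g => ?_⟩⟩
  · rw [Abelianization.ker_of] at ha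
    exact (map_subtype_commutator _).le ⟨a, ha, rfl⟩
  · obtain ⟨a, rfl⟩ := QuotientGroup.mk'_surjective _ a
    exact (QuotientGroup.eq_one_iff a).2 (e ha)
  · exact (e.comap_of_ker_isPGroup (QuotientGroup.mk' _) (by rwa [QuotientGroup.ker_mk'])).to_le
      (map_le_iff_le_comap.1 em.le)
  · rw [← em, ← MonoidHom.map_zpowers, ← Subgroup.map_sup, eq_top_iff,
      ← map_top_of_surjective _ (QuotientGroup.mk'_surjective _), ← gen]
    refine map_mono ((closure_le _).2 fun y hy => ?_)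
    rw [← mul_inv_cancel_left x y]
    exact mul_mem (mem_sup_right (mem_zpowers x)) (mem_sup_left (RR_le_commutator _ (h.mem x hx y hy)))
  · obtain ⟨g, rfl⟩ := QuotientGroup.mk'_surjective _ g
    obtain ⟨n, e⟩ := h.pg x hx _ (h.conj x hx g) ⟨_, h.mem x hx _ (h.conj x hx g)⟩
    exact ⟨n, by
      simp only [← map_inv, ← map_mul, ← map_pow]
      exact (congrArg _ (congrArg Subtype.val e)).trans (map_one _)⟩

end CL.FS
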