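/-
Three small lemmas of pure group theory.
-/
import Cfsg.Agent.PERM.FS.Defs
import Cfsg.Prelude.Def_CaseTheorems
import Cfsg.Agent.SIG.SFMethodTwo
import Cfsg.Agent.INV.Rank
import Cfsg.Agent.SOLV.CoprimeGen
import Mathlib.GroupTheory.FiniteAbelian.Duality

set_option autoImplicit false
set_option linter.unusedVariables false

namespace CL.FS

open Subgroup Cfsg
open scoped commutatorElement

variable {G : Type*} [Group G] [Finite G]

/-- the involutions of a group of rank two with a central four-group -/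
theorem Rk.inv_cases {T : Subgroup G} (hr : PRankLE 2 2 T) {t t' y : G} (h1 : orderOf t = 2) (h2 : orderOf t' = 2) (hne : t ≠ t')
    (h3 : t ∈ T) (h4 : t' ∈ T) (h5 : T ≤ centralizer {t}) (h6 : T ≤ centralizer {t'}) (hy : y ∈ T) (h : y * y = 1) :
    y = 1 ∨ y = t ∨ y = t' ∨ y = t * t' := by
  by_contra! e
  have a1 : t * t = 1 := by rw [← pow_two, ← h1, pow_orderOf_eq_one]
  have a2 : t' * t' = 1 := by rw [← pow_two, ← h2, pow_orderOf_eq_one]
  have a3 : t ≠ 1 := fun e => by simp [e] at h1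
  have a4 : t' ≠ 1 := fun e => by simp [e] at h2
  have a5 : t * t' ≠ 1 := fun e => hne (mul_left_cancel (a1.trans e.symm))
  have c : ∀ x ∈ ({t, t', y} : Set G), ∀ z ∈ ({t, t', y} : Set G), x * z = z * x := by
    simp [mem_centralizer_singleton_iff.1 (h5 h4), mem_centralizer_singleton_iff.1 (h5 hy), mem_centralizer_singleton_iff.1 (h6 hy)]
  have hc := isMulCommutative_closure c
  have h7 := Rank.prankLE_subgroup_iff.1 hr (closure {t, t', y}) ((closure_le _).2 (by rintro _ (rfl | rfl | rfl) <;> assumption))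
    ⟨hc, fun x hx => by
      induction hx using closure_induction with
      | mem x hx => rcases hx with rfl | rfl | rfl <;> rwa [pow_two]
      | one => exact one_pow _
      | mul x z hx hz ih ih' =>
        rw [(show Commute x z from congrArg Subtype.val (hc.is_comm.comm ⟨x, hx⟩ ⟨z, hz⟩)).mul_pow, ih, ih', one_mul]
      | inv x _ ih => rw [inv_pow, ih, inv_one]⟩
  have m : ∀ x ∈ ({t, t', y} : Set G), x ∈ closure {t, t', y} := fun _ => mem_closure_of_mem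
  have h8 := (Set.ncard_le_ncard (s := {y, 1, t, t', t * t'}) (t := closure {t, t', y}) (by
    rintro _ (rfl | rfl | rfl | rfl | rfl)
    exacts [m _ (by simp), one_mem _, m _ (by simp), m _ (by simp), mul_mem (m _ (by simp)) (m _ (by simp))])).trans h7
  rw [Set.ncard_insert_of_notMem (by simp [e]), Set.ncard_insert_of_notMem (by simp [a3.symm, a4.symm, a5.symm]),
    Set.ncard_insert_of_notMem (by simp [hne, a4]), Set.ncard_pair (by simp [a3])] at h8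
  omega

/-- PROOF.  Let `T = C_S(t') = C_{S'}(t)`; `t, t' ∈ Z(T)`, so the involutions of `T` are `t, t', tt'` (rank `≤ 2`).  If `T = S` we are done.  Otherwise
`T < S`, `T < S'`; `g ∈ N_S(T) \ T` fixes `t` and moves `t'`, so `t' ↦ tt'`; `g' ∈ N_{S'}(T) \ T` maps `t ↦ tt'`.  Suppose `S` has an elementary abelian
subgroup `A` of order `≥ 8`.  Then `S` has a normal four-subgroup `U` (a 2-group without one is cyclic or of maximal class; search the library, or: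
take a maximal elementary abelian normal subgroup; see S4143/S0662/BG4/`exists_normal_four`).  `U ∩ Z(S) ≠ 1` and the only involution of `Z(S) ≤ T` is
`t`, so `t ∈ U`.  `[S : C_S(U)] ≤ 2`.  If `t'` centralises `U` then `U ≤ T`, `U = {1,t,t',tt'}`, `C_S(U) ≤ T`, `A ∩ T` has order `≥ 4`, so
contains `t'`, so `A ≤ T`: contradiction.  So `T = T₀ ∪ T₀ t'` with `T₀ = C_T(U) ∌ t', tt'`, and all squares of elements of `T` lie in `T₀`; `t'` is not a
square in `T`, so by conjugacy in `N(T)` neither is `t` or `tt'`; so `T` has exponent 2 and order 4.  S3224 applied to `S` and `t'`: `S` is dihedral,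
semidihedral or of order 4, so has a cyclic subgroup of index `≤ 2`, and `|A| ≤ 4`. -/
theorem rank_le {S S' : Subgroup G} (hS : IsPGroup 2 S) (hS' : IsPGroup 2 S') (hcard : Nat.card S = Nat.card S')
    {t t' : G} (ht : orderOf t = 2) (ht' : orderOf t' = 2) (hne : t ≠ t') (htS : t ∈ S) (ht'S : t' ∈ S) (htS' : t ∈ S')
    (ht'S' : t' ∈ S') (hc : S ≤ centralizer {t}) (hc' : S' ≤ centralizer {t'})
    (hT : S ⊓ centralizer {t'} = S' ⊓ centralizer {t}) (hr : PRankLE 2 2 (S ⊓ centralizer {t'} : Subgroup G)) :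
    PRankLE 2 2 S := by
  set T := S ⊓ centralizer {t'} with hTd
  have c : ∀ {x g : G}, g ∈ centralizer {x} ↔ g * x * g⁻¹ = x := mem_centralizer_singleton_iff.trans mul_inv_eq_iff_eq_mul.symm
  have m1 : t ∈ T := hT.ge ⟨htS', c.2 (by group)⟩
  have m2 : t' ∈ T := ⟨ht'S, c.2 (by group)⟩
  have hV := @Rk.inv_cases G _ _ T hr t t'
  replace hV := fun y => @hV y ht ht' hne m1 m2 (inf_le_left.trans hc) inf_le_right
  have tt : t * t = 1 := by rw [← pow_two, ← ht, pow_orderOf_eq_one]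
  have tt' : t' * t' = 1 := by rw [← pow_two, ← ht', pow_orderOf_eq_one]
  have cj : ∀ {g x : G}, x * x = 1 → g * x * g⁻¹ * (g * x * g⁻¹) = 1 := fun h => by rw [conj_mul, h, mul_one, mul_inv_cancel]
  have h1 : ∀ g ∈ S, g * t' * g⁻¹ ∈ T → g ∈ T ∨ g * t' * g⁻¹ = t * t' := fun g hg h => by
    rcases hV _ h (cj tt') with e | e | e | e
    · simp [conj_eq_one_iff.1 e] at ht'
    · exact absurd (mul_left_cancel (mul_right_cancel ((c.1 (hc hg)).trans e.symm))) hne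
    exacts [.inl ⟨hg, c.2 e⟩, .inr e]
  have n : ∀ {g x : G} {H : Subgroup G}, g ∈ normalizer (H : Set G) → x ∈ H → g * x * g⁻¹ ∈ H := fun h => (mem_normalizer_iff.1 h _).1
  have h2 : ∀ g ∈ S, g * t' * g⁻¹ = t * t' → ∀ k ∈ S, k * t' * k⁻¹ = t * t' → g * k ∈ T := fun g hg e k hk e' =>
    ⟨mul_mem hg hk, c.2 (by
      rw [show g * k * t' * (g * k)⁻¹ = g * (k * t' * k⁻¹) * g⁻¹ by group, e', ← conj_mul, e, c.1 (hc hg), ← mul_assoc, tt, one_mul])⟩
  by_cases hTS : T = S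
  · exact hTS ▸ hr
  by_cases hsq : ∃ y ∈ T, y * y = t'
  · obtain ⟨y, hy, e⟩ := hsq
    have h3 : S ≤ normalizer (T : Set G) := inf_eq_left.1 (not_not.1 fun h3 => by
      obtain ⟨g, g1, g2, g3⟩ := SylowAux.exists_mem_normalizer_of_lt hS (inf_le_left.lt_of_ne h3)
      have h4 := n g2 (⟨hy.1, le_normalizer hy⟩ : y ∈ S ⊓ normalizer (T : Set G))
      have h5 : g * t' * g⁻¹ ∈ T := by
        rw [← e, ← conj_mul]
        exact (h1 _ h4.1 (n h4.2 m2)).elim (fun h => mul_mem h h) fun h => h2 _ h4.1 h _ h4.1 h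
      refine g3 ⟨g1, (h1 g g1 h5).elim (le_normalizer ·) fun h => (Subgroup.inv_mem_iff _).1 (MSS.mem_normalizer_of_cj_le
        (MSS.cj_le_iff_forall.2 fun x hx => ⟨S.mul_mem (S.mul_mem (S.inv_mem g1) hx.1) (S.inv_mem (S.inv_mem g1)), c.2 ?_⟩))⟩
      rw [show g⁻¹ * x * g⁻¹⁻¹ * t' * (g⁻¹ * x * g⁻¹⁻¹)⁻¹ = g⁻¹ * (x * (g * t' * g⁻¹) * x⁻¹) * g by group, h, ← conj_mul, c.1 hx.2,
        c.1 (hc hx.1), ← h]
      group)
    refine Rank.prankLE_subgroup_iff.2 fun A hA h => ?_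
    by_cases h4 : A ≤ T
    · exact Rank.prankLE_subgroup_iff.1 hr A h4 h
    obtain ⟨a, a1, a2⟩ := SetLike.not_le_iff_exists.1 h4
    have a3 := (h1 a (hA a1) (n (h3 (hA a1)) m2)).resolve_left a2
    have h5 : ∀ b ∈ A, b ∈ T → b = 1 ∨ b = t := fun b hb h6 => by
      have h7 := mul_inv_eq_iff_eq_mul.2 ((Rank.isElementaryAbelian_iff.1 h).1 a a1 b hb)
      rcases hV b h6 (Rank.isElementaryAbelian_two_iff.1 h b hb) with e | e | e | e
      exacts [.inl e, .inr e, absurd ⟨hA a1, c.2 (e ▸ h7)⟩ a2, absurd ⟨hA a1, c.2 (mul_left_cancel (a := t) (by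
        rwa [e, ← conj_mul, c.1 (hc (hA a1))] at h7))⟩ a2]
    refine (Set.ncard_le_ncard (s := A) (t := {1, t, a⁻¹, a⁻¹ * t}) fun b hb => ?_).trans 
      ((Set.ncard_insert_le _ _).trans (Nat.succ_le_succ ((Set.ncard_insert_le _ _).trans (Nat.succ_le_succ (m := 2) ((Set.ncard_insert_le _ _).trans_eq (by simp))))))
    rcases h1 b (hA hb) (n (h3 (hA hb)) m2) with e | e
    · rcases h5 b hb e with e | e <;> simp [e]
    · rcases h5 _ (mul_mem a1 hb) (h2 a (hA a1) a3 b (hA hb) e) with e | e <;> simp [eq_inv_mul_iff_mul_eq.2 e]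
  obtain ⟨g, g1, g2, g3⟩ := SylowAux.exists_mem_normalizer_of_lt hS (inf_le_left.lt_of_ne hTS)
  obtain ⟨k, k1, k2, k3⟩ := SylowAux.exists_mem_normalizer_of_lt hS' ((hT.le.trans inf_le_left).lt_of_ne fun e =>
    hTS (eq_of_le_of_card_ge inf_le_left (hcard.trans (congrArg (fun H : Subgroup G => Nat.card H) e.symm)).le))
  have g4 := (h1 g g1 (n g2 m2)).resolve_left g3
  have h3 : ∀ y ∈ T, y * y ≠ t * t' := fun y hy e => hsq ⟨_, n (inv_mem g2) hy, by rw [conj_mul, e, ← g4]; group⟩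
  have h4 : ∀ y ∈ T, y * y ≠ t := fun y hy e => h3 _ (n k2 hy) (by
    rw [conj_mul, e]
    rcases hV _ (n k2 m1) (cj tt) with e | e | e | e
    · simp [conj_eq_one_iff.1 e] at ht
    · exact absurd (hT.ge ⟨k1, c.2 e⟩) k3
    · exact absurd (mul_left_cancel (mul_right_cancel (e.trans (c.1 (hc' k1)).symm))) hne
    · exact e)
  have h5 : ∀ i : ℕ, ∀ y ∈ T, y ^ 2 ^ i = 1 → y * y = 1 := fun i => by
    induction i with
    | zero => exact fun y _ e => by rw [pow_zero, pow_one] at e; rw [e, one_mul]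
    | succ i ih =>
      intro y hy e
      rw [pow_succ', pow_mul, pow_two] at e
      rcases hV _ (mul_mem hy hy) (ih _ (mul_mem hy hy) e) with e | e | e | e
      exacts [e, absurd e (h4 y hy), absurd ⟨y, hy, e⟩ hsq, absurd e (h3 y hy)]
  exact SFM.prankLE_of_card_centralizer_le hS ht'S (Rank.prankLE_subgroup_iff.1 hr T le_rfl (Rank.isElementaryAbelian_two_iff.2
    fun y hy => h5 _ y hy (congrArg Subtype.val (hS ⟨y, hy.1⟩).choose_spec)))

theorem Rk.exists_hyp {A R E : Subgroup G} (hA : ∀ a ∈ A, a * a = 1) (hR : A ≤ normalizer (R : Set G)) (ho : Odd (Nat.card R))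
    (hE : ¬ R ≤ E) : ∃ B ≤ A, B.relIndex A ≤ 2 ∧ ¬ R ⊓ centralizer (B : Set G) ≤ E := by
  have h := Rank.isElementaryAbelian_two_iff.2 hA
  have := h.1
  obtain ⟨n, hn⟩ := (Rank.isPGroup_of_isElementaryAbelian h).exists_card_eq
  have h1 := mt (coprime_le_of_forall_cyclic_quotient A R E hR (hn ▸ ho.coprime_two_left.pow_left n)) hE
  push Not at h1
  obtain ⟨B, a, rfl, h1⟩ := h1
  have h2 := mem_sup_right (S := B) (mem_zpowers a)
  refine ⟨B, le_sup_left, Nat.le_of_dvd two_pos (relIndex_dvd_two_iff.2 ⟨a, h2, fun b hb => ?_⟩), h1⟩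
  have h3 : b ∈ ((B ⊔ zpowers a : Subgroup G) : Set G) := hb
  rw [coe_mul_of_right_le_normalizer_left _ _ (zpowers_le.2 (centralizer_le_normalizer _ fun x hx =>
    (Rank.isElementaryAbelian_iff.1 h).1 x (mem_sup_left hx) a h2))] at h3
  obtain ⟨x, hx, _, ⟨i, rfl⟩, rfl⟩ := h3
  have h4 : a ^ (2 : ℤ) = 1 := (zpow_two a).trans (hA a h2)
  rcases Int.even_or_odd' i with ⟨j, rfl | rfl⟩
  · exact .inr (by simpa [zpow_mul, h4])
  · exact .inl (by simpa [zpow_add, zpow_mul, h4, mul_assoc, hA a h2])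

/-- An elementary abelian 2-group `A` of order `≥ 8` acting on odd groups `R`, `R'`: hyperplanes `B`, `B'` whose centralisers are not inside
given proper subgroups; `B` is not cyclic and `B ∩ B' ≠ 1`.
PROOF.  `CL.coprime_iSup_centralizer_cyclic_quotient` (SOLV/CoprimeGen): `R` is generated by the `C_R(B)` with `A/B` cyclic, i.e. `[A : B] ≤ 2`. -/
theorem hyp {A R E R' E' : Subgroup G} (hA : ∀ a ∈ A, a * a = 1) (h8 : 4 < Nat.card A)
    (hR : A ≤ normalizer (R : Set G)) (ho : Odd (Nat.card R)) (hE : ¬ R ≤ E)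
    (hR' : A ≤ normalizer (R' : Set G)) (ho' : Odd (Nat.card R')) (hE' : ¬ R' ≤ E') :
    ∃ B B' : Subgroup G, B ≤ A ∧ B' ≤ A ∧ ¬ IsCyclic B ∧ B ⊓ B' ≠ ⊥ ∧ ¬ R ⊓ centralizer (B : Set G) ≤ E ∧
      ¬ R' ⊓ centralizer (B' : Set G) ≤ E' := by
  obtain ⟨B, h1, h2, h3⟩ := Rk.exists_hyp hA hR ho hE
  obtain ⟨B', h4, h5, h6⟩ := Rk.exists_hyp hA hR' ho' hE'
  refine ⟨B, B', h1, h4, fun h => h8.not_ge ?_, fun h => h8.not_ge ?_, h3, h6⟩
  · have h7 : Nat.card B ≤ 2 := Nat.le_of_dvd two_pos (IsCyclic.exponent_eq_card (α := B) ▸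
      Monoid.exponent_dvd_of_forall_pow_eq_one fun b => Subtype.ext ((pow_two _).trans (hA b (h1 b.2))))
    rw [← (B.subgroupOf A).index_mul_card, Nat.card_congr (subgroupOfEquivOfLe h1).toEquiv]
    exact Nat.mul_le_mul h2 h7
  · rw [← relIndex_bot_left, ← h]
    exact relIndex_inf_le.trans (Nat.mul_le_mul h2 h5)

/-- (LA) `V = R/E` is an elementary abelian 2-group with the non-degenerate alternating form `⁅σ, τ⁆ mod E₀` (values in `E/E₀`, of order `≤ 2`), `k` is an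
isometry with `k² = 1` on `R`, and `C_V(k)` is totally isotropic.  Then `C_V(k) = [V, k]`.
PROOF.  Put `V = Additive (R/E)` over `ZMod 2`, `B(σ,τ) = 0` iff `⁅σ,τ⁆ ∈ E₀`.  Suppose `ρ ∈ C_V(k) \ [V,k]`.  Take a linear functional `f` with `f [V,k] = 0`,
`f ρ = 1`; `B` is non-degenerate and `V` finite-dimensional, so `f = B(w, ·)`.  `B(kw - w, kv) = B(w, v) - B(w, kv) = 0` for all `v`, so `w ∈ C_V(k)` and
`B(w, ρ) = 0`: contradiction.  (Or count: `|C_V(k)| |[V,k]| = |V|` and `C_V(k) ≤ C_V(k)^⊥` has order `≤ |V| / |C_V(k)|`.) -/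
theorem la {R E E₀ : Subgroup G} {k : G} (hE₀ : E₀ ≤ E) (hER : E ≤ R) (hcen : ∀ e ∈ E, ∀ σ ∈ R, σ * e = e * σ)
    (hcomm : ∀ σ ∈ R, ∀ τ ∈ R, ⁅σ, τ⁆ ∈ E) (hsq : ∀ σ ∈ R, σ * σ ∈ E)
    (hidx : ∀ e ∈ E, ∀ e' ∈ E, e ∉ E₀ → e' ∉ E₀ → e * e' ∈ E₀)
    (hnd : ∀ σ ∈ R, (∀ τ ∈ R, ⁅σ, τ⁆ ∈ E₀) → σ ∈ E)
    (hkR : k ∈ normalizer (R : Set G)) (hkE : k ∈ normalizer (E : Set G)) (hk₀ : k ∈ normalizer (E₀ : Set G))
    (hkk : k * k ∈ centralizer (R : Set G))
    (hiso : ∀ σ ∈ R, ∀ τ ∈ R, ⁅σ, k⁆ ∈ E → ⁅τ, k⁆ ∈ E → ⁅σ, τ⁆ ∈ E₀)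
    {ρ : G} (hρ : ρ ∈ R) (hρk : ⁅ρ, k⁆ ∈ E) : ∃ σ ∈ R, ∃ e ∈ E, ρ = ⁅σ, k⁆ * e := by
  classical
  have : (E.subgroupOf R).Normal := ⟨fun e he σ => by
    rw [mem_subgroupOf, coe_mul, coe_mul, hcen e he _ σ.2, coe_inv, mul_inv_cancel_right]; exact he⟩
  let π := QuotientGroup.mk' (E.subgroupOf R)
  have hπ : ∀ {σ τ : R}, π σ = π τ ↔ (σ : G)⁻¹ * τ ∈ E := QuotientGroup.eq
  let : CommGroup (R ⧸ E.subgroupOf R) := ⟨fun x y => by
    obtain ⟨x, rfl⟩ := QuotientGroup.mk'_surjective _ x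
    obtain ⟨y, rfl⟩ := QuotientGroup.mk'_surjective _ y
    rw [← map_mul, ← map_mul, hπ]
    simpa [commutatorElement_def, mul_assoc] using hcomm _ (inv_mem y.2) _ (inv_mem x.2)⟩
  let χ : G → ℂˣ := fun e => if e ∈ E₀ then 1 else -1
  have h1 : ∀ {e}, χ e = 1 ↔ e ∈ E₀ := by intro e; simp only [χ]; split_ifs with h <;> simp [h, Units.ext_iff, neg_eq_iff_add_eq_zero]
  have h2 : ∀ e ∈ E, ∀ e' ∈ E, χ (e * e') = χ e * χ e' := fun e he e' he' => by
    by_cases h : e ∈ E₀ <;> by_cases h' : e' ∈ E₀ <;> simp [χ, h, h', mul_mem_cancel_left, mul_mem_cancel_right, hidx e he e' he']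
  have h3 : ∀ σ τ υ : R, χ ⁅(σ : G), (τ * υ : G)⁆ = χ ⁅(σ : G), (τ : G)⁆ * χ ⁅(σ : G), (υ : G)⁆ := fun σ τ υ => by
    rw [← h2 _ (hcomm _ σ.2 _ τ.2) _ (hcomm _ σ.2 _ υ.2), 
      show ⁅(σ : G), (τ * υ : G)⁆ = ⁅(σ : G), (τ : G)⁆ * (τ * ⁅(σ : G), (υ : G)⁆ * (τ : G)⁻¹) by group,
      hcen _ (hcomm _ σ.2 _ υ.2) _ τ.2, mul_inv_cancel_right]
  have h4 : ∀ σ τ υ : R, χ ⁅(σ : G) * τ, (υ : G)⁆ = χ ⁅(σ : G), (υ : G)⁆ * χ ⁅(τ : G), (υ : G)⁆ := fun σ τ υ => by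
    rw [mul_comm, ← h2 _ (hcomm _ τ.2 _ υ.2) _ (hcomm _ σ.2 _ υ.2), 
      show ⁅(σ : G) * τ, (υ : G)⁆ = σ * ⁅(τ : G), (υ : G)⁆ * (σ : G)⁻¹ * ⁅(σ : G), (υ : G)⁆ by group,
      hcen _ (hcomm _ τ.2 _ υ.2) _ σ.2, mul_inv_cancel_right]
  let β : R →* (R ⧸ E.subgroupOf R) →* ℂˣ := MonoidHom.mk' (fun σ => QuotientGroup.lift _ (MonoidHom.mk' (fun τ : R => χ ⁅(σ : G), (τ : G)⁆) (h3 σ))
    fun e he => h1.2 (by rw [commutatorElement_eq_one_iff_mul_comm.2 (hcen e he _ σ.2)]; exact one_mem _)) fun σ τ =>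
      QuotientGroup.monoidHom_ext _ (MonoidHom.ext (h4 σ τ))
  have h5 : β.range = ⊤ := eq_top_of_le_card _ (by
    rw [CommGroup.card_monoidHom_of_hasEnoughRootsOfUnity, ← index_ker]
    exact index_antitone fun σ h => hnd _ σ.2 fun τ hτ => h1.1 (DFunLike.congr_fun h (π ⟨τ, hτ⟩)))
  let c : MulAut R := normalizerMonoidHom R ⟨k, hkR⟩
  let κ := π / π.comp c
  have h6 : ∀ σ : R, κ σ = π (σ * (c σ)⁻¹) := fun σ => by rw [map_mul, map_inv, ← div_eq_mul_inv]; rfl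
  have h7 : ∀ σ : R, ((σ * (c σ)⁻¹ : R) : G) = ⁅(σ : G), k⁆ := fun σ => by
    rw [coe_mul, coe_inv, show (c σ : G) = k * σ * k⁻¹ from rfl]; group
  by_cases h8 : π ⟨ρ, hρ⟩ ∈ κ.range
  · obtain ⟨σ, h8⟩ := h8
    exact ⟨σ, σ.2, _, h7 σ ▸ hπ.1 ((h6 σ).symm.trans h8), (mul_inv_cancel_left ..).symm⟩
  obtain ⟨φ, hφ⟩ := CommGroup.exists_apply_ne_one_of_hasEnoughRootsOfUnity (_ ⧸ κ.range) ℂ (a := QuotientGroup.mk _)
    (mt (QuotientGroup.eq_one_iff _).1 h8)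
  obtain ⟨w, hw⟩ := h5.ge (mem_top (φ.comp (QuotientGroup.mk' κ.range)))
  refine absurd ((DFunLike.congr_fun hw _).symm.trans (h1.2 (hiso _ w.2 _ hρ (hnd _ (h7 w ▸ (w * (c w)⁻¹).2) fun τ hτ => ?_) hρk))) hφ
  obtain ⟨σ, hσ⟩ := c.surjective ⟨τ, hτ⟩
  have h9 : β (c w) (π (c σ)) = β w (π σ) := if_congr (by
    rw [show ⁅(c w : G), (c σ : G)⁆ = k * ⁅(w : G), (σ : G)⁆ * k⁻¹ from (conjugate_commutatorElement ..).symm, ← mem_normalizer_iff.1 hk₀]) rfl rfl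
  have h10 : β w (κ σ) = 1 := by rw [hw]; exact (congrArg φ ((QuotientGroup.eq_one_iff _).2 ⟨σ, rfl⟩)).trans (map_one φ)
  rw [← h1, ← h7]
  change β _ (π ⟨τ, hτ⟩) = 1
  rw [← hσ, map_mul, map_inv, MonoidHom.mul_apply, MonoidHom.inv_apply, h9, mul_inv_eq_one, eq_comm, ← div_eq_one, ← map_div, ← h10]
  rfl

end CL.FS
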