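/-
Linear F-sets, minimal counterexample, `r = 2`: common part.
-/
import Cfsg.Agent.PERM.FS.Blk
import Cfsg.Agent.TECH.CFSection

set_option autoImplicit false

namespace CL.FS

open Subgroup CL.MSS
open scoped commutatorElement

variable {G : Type*} [Group G] [Finite G] {p : ℕ} {D : Set G}

namespace St

variable (h : St p 2 D)
include h

/-- (T1) for every flag `x ∈ Y` there is `z = ρ k` in `EE Y' \ Z(G)` for another block `Y'`.
PROOF.  Take a block `Y'`, `z ∈ EE Y' \ Z` (`EE_not_le`; `z² = 1` by `Sub.pow_EE`), `y ∈ D \ Y'`, `y' = z y z⁻¹ ≠ y` (`Fx_eq`).  `z` normalises `L = ⟨y, y'⟩` and `R₀ = RR {y, y'}`; `Q = R₀ ⊔ ⟨z⟩` is a 2-group normalised by `y` (`y z y⁻¹ z⁻¹ = y y'⁻¹ ∈ R₀`).  `syl` gives a block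
`Y ∋ y` with `Q ≤ N(Y)`; `Y ≠ Y'`.  `y' = ρ y ρ⁻¹`, `ρ ∈ R₀ ≤ RR Y`; `k = ρ⁻¹ z ∈ Q` centralises `y`, and `k y' k⁻¹ = ρ⁻¹ y ρ = ρ y ρ⁻¹` as `ρ² ∈ EE Y`; so `k` centralises `L ∋ ρ`.  Conjugate the flag `(y, Y)` to the given one (`conj_flag`). -/
theorem exists_z {Y : Set G} (hY : Blk D Y) {x : G} (hx : x ∈ Y) :
    ∃ (Y' : Set G) (ρ k : G), Blk D Y' ∧ Y' ≠ Y ∧ ρ * k ∈ EE Y' ∧ ρ * k ∉ center G ∧ ρ ∈ RR Y ∧ ρ ∉ EE Y ∧
      IsPGroup 2 (zpowers k) ∧ k ∈ normalizer Y ∧ k * x = x * k ∧ ρ * k = k * ρ := by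
  have f := h.toIsF
  have s0 := h.sub_of_blk hY
  obtain ⟨z, hz, z0⟩ := SetLike.not_le_iff_exists.1 (h.EE_not_le hY)
  have zz : z * z = 1 := (pow_two z).symm.trans (s0.pow_EE f h.na hz)
  have zi := inv_eq_of_mul_eq_one_right zz
  obtain ⟨y, hy, y0⟩ := Set.not_subset.1 fun e : D ⊆ Y => hY.ne (top_le_iff.1 (h.gen.ge.trans (closure_mono e)))
  have hy' := f.conj y hy z
  have ne : z * y * z⁻¹ ≠ y := fun e => y0 (h.Fx_eq hY hz.2 z0 ▸ mem_Fx.2 ⟨hy, (mul_inv_eq_iff_eq_mul.1 e).symm⟩)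
  have e2 : z * (z * y * z⁻¹) * z⁻¹ = y := by
    rw [zi, ← mul_assoc, ← mul_assoc, zz, one_mul, mul_assoc, zz, mul_one]
  have nz : z ∈ normalizer (RR {y, z * y * z⁻¹} : Set G) := nrm_le_nrm_RR _ (mem_nrm_iff.2 (by
    rw [cjs, Set.image_pair, e2, Set.pair_comm]))
  have ny : y ∈ normalizer (RR {y, z * y * z⁻¹} : Set G) :=
    (f.sub_line hy hy').2 ▸ (f.sub_line hy hy').1.mem_nrm_RR f ⟨hy, subset_closure (.inl rfl)⟩
  have pQ : IsPGroup 2 (RR {y, z * y * z⁻¹} ⊔ zpowers z : Subgroup G) := (f.pg y hy _ hy').to_sup_of_normal_left'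
    (isPGroup_zpowers (k := 1) ((pow_two z).trans zz)) (zpowers_le.2 nz)
  obtain ⟨P, Y₁, -, b1, y1, QP, PN, -, -⟩ := h.syl hy pQ (mem_normalizer_of_cj_le (by
    rw [Subgroup.map_sup, MonoidHom.map_zpowers]
    refine sup_le ((cj_eq_of_mem_normalizer ny).le.trans le_sup_left) (zpowers_le.2 ?_)
    convert mul_mem (mem_sup_left (conj_mem_of_nrm ny (inv_mem (f.mem y hy _ hy')))) (mem_sup_right (mem_zpowers z))
      using 1
    simp only [MulEquiv.coe_toMonoidHom, MulAut.conj_apply]; group))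
  have s1 := h.sub_of_blk b1
  have zQ : z ∈ RR {y, z * y * z⁻¹} ⊔ zpowers z := mem_sup_right (mem_zpowers z)
  obtain ⟨ρ, hρ, e⟩ := f.exists_conj hy hy'
  have r1 : ρ ∈ RR Y₁ := RR_mono (by rintro _ (rfl | rfl); exacts [y1, conj_mem_of_nrm (PN (QP zQ)) y1]) hρ
  have kQ := mul_mem (inv_mem (mem_sup_left hρ)) zQ
  have ky : ρ⁻¹ * z * y = y * (ρ⁻¹ * z) := by
    calc _ = ρ⁻¹ * (z * y * z⁻¹) * z := by group
      _ = _ := by rw [← e]; group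
  have kρ : ρ * (ρ⁻¹ * z) = ρ⁻¹ * z * ρ := by
    refine (show ρ⁻¹ * z ∈ centralizer (closure {y, z * y * z⁻¹} : Set G) from ?_) ρ (RR_le_closure _ hρ)
    rw [centralizer_closure]
    rintro _ (rfl | rfl)
    · exact ky.symm
    have := (s1.pow_mem f h.na r1).2 y y1
    calc _ = ρ⁻¹ * (ρ ^ 2 * y) * ρ⁻¹ * ρ⁻¹ * z := by rw [← e]; group
      _ = ρ⁻¹ * (z * (z * y * z⁻¹) * z⁻¹) * z := by rw [← this, e2]; group
      _ = _ := by group
  obtain ⟨g, rfl, e3⟩ := h.conj_flag b1 hY y1 hx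
  have c : ∀ a : G, g⁻¹ * (g * a * g⁻¹) * g = a := fun a => by group
  refine ⟨cjs g Y, g * ρ * g⁻¹, g * (ρ⁻¹ * z) * g⁻¹, h.blk_cj hY g, fun e => y0 (cjs_inj g (e.trans e3.symm) ▸ y1),
    by rw [conj_mul, mul_inv_cancel_left, mem_EE_cjs, c]; exact hz,
    fun m => z0 (by simpa [mul_assoc] using Normal.conj_mem inferInstance _ m g⁻¹), by rw [← e3, mem_RR_cjs, c]; exact r1,
    fun m => ne ?_, ?_, by rw [← e3, mem_nrm_cjs, c]; exact PN (QP kQ), by rw [conj_mul, conj_mul, ky],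
    by rw [conj_mul, conj_mul, kρ]⟩
  · rw [← e3, mem_EE_cjs, c] at m
    rw [← e, ← m.2 y y1, mul_inv_cancel_right]
  · have := (pQ.to_le (zpowers_le.2 kQ)).map (MulAut.conj g).toMonoidHom
    rwa [MonoidHom.map_zpowers] at this

/-- (T2) transfer.  PROOF.  `κ ∈ Z(G)` is a 2-element, so lies in `P` and in `G'` (`mem_commutator`); the transfer `G → P/P'` maps `κ` to `κ^[G:P]` and kills `G'`, so `κ ∈ P'` (or the focal subgroup theorem).  `P = R X` (`R = RR Y` is transitive on `Y`), `R` is normal in `P`, so `P' ≤ R X'`;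
`κ = ρ ξ` gives `ρ ∈ R ∩ C(x) = EE Y`. -/
theorem center_le {Y : Set G} (hY : Blk D Y) {x : G} (hx : x ∈ Y) {P : Subgroup G} (hP : SylIn 2 P ⊤)
    (hPY : P ≤ normalizer Y) (hRP : RR Y ≤ P) :
    center G ≤ ⁅P ⊓ centralizer {x}, P ⊓ centralizer {x}⁆ ⊔ EE Y := fun κ hκ => by
  have f := h.toIsF
  have s := h.sub_of_blk hY
  have nR := hPY.trans (nrm_le_nrm_RR Y)
  obtain ⟨n, hn⟩ := h.zr ⟨κ, hκ⟩
  have m := CF.inf_center_commutator_le hP ⟨⟨hP.le_of_normalized h.zr le_top (le_top.trans (normalizer_eq_top _).ge) hκ,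
    h.mem_commutator ((f.cop.symm.pow_left n).coprime_dvd_left (orderOf_dvd_of_pow_eq_one
      (congrArg Subtype.val hn)))⟩, hκ⟩
  have d : ∀ a ∈ P, ∃ ρ ∈ RR Y, ∃ ξ ∈ P ⊓ centralizer {x}, a = ρ * ξ := fun a ha => by
    obtain ⟨ρ, hρ, e⟩ := s.exists_conj f hx (conj_mem_of_nrm (hPY ha) hx)
    refine ⟨ρ, hρ, ρ⁻¹ * a, mem_inf.2 ⟨mul_mem (inv_mem (hRP hρ)) ha, mem_centralizer_singleton_iff.2 ?_⟩, by group⟩
    calc _ = ρ⁻¹ * (a * x * a⁻¹) * a := by group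
      _ = _ := by rw [← e]; group
  have le : ⁅P, P⁆ ≤ RR Y ⊔ ⁅P ⊓ centralizer {x}, P ⊓ centralizer {x}⁆ := commutator_le.2 fun a ha b hb => by
    obtain ⟨ρ, hρ, ξ, hξ, rfl⟩ := d a ha
    obtain ⟨σ, hσ, η, hη, rfl⟩ := d b hb
    convert mul_mem (mul_mem (mem_sup_left (mul_mem (mul_mem hρ (conj_mem_of_nrm (nR hξ.1) hσ))
      (conj_mem_of_nrm (nR (mul_mem (mul_mem hξ.1 hη.1) (inv_mem hξ.1))) (inv_mem hρ))))
      (mem_sup_right (commutator_mem_commutator hξ hη))) (mem_sup_left (inv_mem hσ)) using 1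
    simp only [commutatorElement_def]; group
  have l := commutator_le_self (P ⊓ centralizer {x})
  obtain ⟨ρ, hρ, ξ, hξ, rfl⟩ := (mem_sup_of_normalizes_left ((l.trans inf_le_left).trans nR)).1 (le m)
  refine mul_mem (mem_sup_right ((s.mem_EE_iff f h.na hx hρ).2 (mul_right_cancel (b := ξ) ?_))) (mem_sup_left hξ)
  rw [mul_assoc x, mem_center_iff.1 hκ x, mul_assoc, mul_assoc, mem_centralizer_singleton_iff.1 (l hξ).2]

/-- (T3) If all commutators of `X = C_P(x)` lie in `EE Y · Z(G)` and have square 1, then `Z(G)` has exponent 2.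
PROOF.  `EE Y ⊔ Z(G)` is abelian, so its elements of square 1 form a subgroup; it contains `X'` and `EE Y`. -/
theorem center_sq {Y : Set G} (hY : Blk D Y) {x : G} (hx : x ∈ Y) {P : Subgroup G} (hP : SylIn 2 P ⊤)
    (hPY : P ≤ normalizer Y) (hRP : RR Y ≤ P)
    (hX : ∀ a ∈ P ⊓ centralizer {x}, ∀ b ∈ P ⊓ centralizer {x}, ⁅a, b⁆ ∈ EE Y ⊔ center G ∧ ⁅a, b⁆ * ⁅a, b⁆ = 1)
    {κ : G} (hκ : κ ∈ center G) : κ * κ = 1 := by
  have c : ∀ a ∈ EE Y ⊔ center G, ∀ b ∈ EE Y ⊔ center G, a * b = b * a := fun a ha b hb => by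
    obtain ⟨e, he, z, hz, rfl⟩ := mem_sup_of_normal_right.1 ha
    obtain ⟨e', he', z', hz', rfl⟩ := mem_sup_of_normal_right.1 hb
    rw [mul_assoc, ← mem_center_iff.1 hz, mul_assoc e', mul_assoc e', ← mem_center_iff.1 hz', ← mul_assoc, ← mul_assoc,
      EE_comm he' he.1, mem_center_iff.1 hz', mul_assoc e', ← mul_assoc z']
    rw [← mem_center_iff.1 hz']; group
  let T : Subgroup G :=
    { carrier := {g | g ∈ EE Y ⊔ center G ∧ g * g = 1}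
      one_mem' := ⟨one_mem _, one_mul _⟩
      mul_mem' := fun {a b} ha hb => ⟨mul_mem ha.1 hb.1, by
        rw [mul_assoc, ← mul_assoc b, c b hb.1 a ha.1, mul_assoc, hb.2, mul_one, ha.2]⟩
      inv_mem' := fun {a} ha => ⟨inv_mem ha.1, by rw [← mul_inv_rev, ha.2, inv_one]⟩ }
  exact (((h.center_le hY hx hP hPY hRP).trans (sup_le (b := EE Y) (c := T) (commutator_le.2 hX) fun e he =>
    ⟨mem_sup_left he, (pow_two e).symm.trans ((h.sub_of_blk hY).pow_EE h.toIsF h.na he)⟩)) hκ).2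

end St

end CL.FS
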