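/-
Linear F-sets, minimal counterexample, `r = 2`, `|EZ/Z| = 2`.
-/
import Cfsg.Agent.PERM.FS.Two0
import Cfsg.Agent.PERM.FS.Rk
import Cfsg.Agent.PERM.FS.Cl2
import Cfsg.Agent.INV.WT.Odd

set_option autoImplicit false

namespace CL.FS

open Subgroup CL.MSS X6
open scoped commutatorElement

variable {G : Type*} [Group G] [Finite G] {p : ℕ} {D : Set G}

namespace X6

omit [Finite G] in
theorem cz {κ : G} (h : κ ∈ center G) (g : G) : g * κ * g⁻¹ = κ := by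
  rw [mem_center_iff.1 h g, mul_inv_cancel_right]

omit [Finite G] in
theorem cz_iff {κ : G} (g : G) : g * κ * g⁻¹ ∈ center G ↔ κ ∈ center G :=
  ⟨fun h => by rw [← cz h g⁻¹] at h; simpa [mul_assoc] using h, fun h => (cz h g).symm ▸ h⟩

omit [Finite G] in
theorem mem_EZ {E : Subgroup G} {g : G} : g ∈ E ⊔ center G ↔ ∃ e ∈ E, ∃ κ ∈ center G, e * κ = g :=
  mem_sup_of_normal_right

omit [Finite G] in
theorem mem_cjs_of {Y : Set G} {x g : G} (hx : x ∈ Y) (e : g * x = x * g) : x ∈ cjs g Y := by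
  rwa [mem_cjs, mul_assoc, ← e, inv_mul_cancel_left]

omit [Finite G] in
theorem pg_of_sq (hZ : IsPGroup 2 (center G)) {g : G} (h : g * g ∈ center G) : IsPGroup 2 (zpowers g) := by
  obtain ⟨k, hk⟩ := isPGroup_iff_forall_mem.1 hZ _ h
  exact MSS.isPGroup_zpowers (k := k + 1) (by rw [pow_succ', pow_mul, pow_two, hk])

omit [Finite G] in
theorem cen_RR {Y : Set G} {k ρ : G} (hk : k ∈ centralizer Y) (hρ : ρ ∈ RR Y) : ρ * k = k * ρ := by
  rw [← centralizer_closure] at hk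
  exact hk _ (RR_le_closure Y hρ)

end X6

namespace St

variable (h : St p 2 D) (hs : ∀ Y, Blk D Y → ∀ e ∈ EE Y, ∀ e' ∈ EE Y, e ∉ center G → e' ∉ center G → e * e' ∈ center G)
include h

theorem ta_eq {Y Y' : Set G} (hY : Blk D Y) (hY' : Blk D Y') {x e v : G} (hx : x ∈ Y) (hx' : x ∈ Y')
    (he : e ∈ EE Y') (hz : e ∉ center G) (hv : v ∈ normalizer Y) (h1 : e * v⁻¹ ∈ center G) : Y = Y' :=
  by_contra fun ne => hz (h.f5 hY hY' ne hx hx' he (by simpa using mul_mem (center_le_nrm Y h1) hv))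

theorem ta_sq {Y : Set G} (hY : Blk D Y) {e : G} (he : e ∈ EE Y) : e * e = 1 := by
  rw [← pow_two, (h.sub_of_blk hY).pow_EE h.toIsF h.na he]

include hs

omit [Finite G] h in
theorem ta_cen {Y : Set G} (hY : Blk D Y) {e g : G} (he : e ∈ EE Y) (hz : e ∉ center G) (hc : g * e = e * g) :
    g ∈ centralizer (EE Y : Set G) := fun e' he' => by
  by_cases h1 : e' ∈ center G
  · exact (mem_center_iff.1 h1 g).symm
  have := mem_center_iff.1 (hs Y hY e' he' e he h1 hz) g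
  rw [mul_assoc, ← hc, ← mul_assoc, ← mul_assoc] at this
  exact (mul_right_cancel this).symm

omit [Finite G] h in
theorem ta_cm {Y : Set G} (hY : Blk D Y) {e g : G} (he : e ∈ EE Y) (hz : e ∉ center G) (hg : g ∈ normalizer Y) :
    ⁅e, g⁆ ∈ center G := by
  have := hs Y hY e he _ (nm (nrm_le_nrm_EE Y hg) (inv_mem he)) hz fun e' => hz (inv_mem_iff.1 ((cz_iff g).1 e'))
  rwa [← mul_assoc, ← mul_assoc] at this

theorem two_blk {Y : Set G} (hY : Blk D Y) {x c z : G} (hx : x ∈ Y) (hz : z ∈ EE Y) (hzZ : z ∉ center G)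
    (hcx : c * x = x * c) (hcY : c ∈ normalizer Y) (hcc : c * c ∈ center G) (hc : c ∉ EE Y ⊔ center G) :
    ∃ Y₂, Blk D Y₂ ∧ x ∈ Y₂ ∧ Y₂ ≠ Y ∧ (c ∈ normalizer Y₂ ∨ c * z ∈ normalizer Y₂) := by
  by_contra! hn
  obtain ⟨Y₂, h₂, x2, ne⟩ := h.exists_blk_ne hY (hY.sub hx)
  obtain ⟨z₂, hz₂, z2Z⟩ := SetLike.not_le_iff_exists.1 (h.EE_not_le h₂)
  have cx : ∀ d ∈ zpowers (c * z₂), d * x = x * d ∧ d⁻¹ * x = x * d⁻¹ := fun d hd => by
    have : d ∈ centralizer {x} := zpowers_le.2 (mul_mem (mem_centralizer_singleton_iff.2 hcx)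
      (mem_centralizer_singleton_iff.2 (hz₂.2 x x2).symm)) hd
    exact ⟨mem_centralizer_singleton_iff.1 this, mem_centralizer_singleton_iff.1 (inv_mem this)⟩
  have z2N : z₂ ∈ normalizer Y₂ := cen_le_nrm _ hz₂.2
  rcases WT.dih_mod (H := ⊤) (N := center G) (by rw [normalizer_eq_top]) le_top (mem_top c) (mem_top z₂) hcc
    (by rw [h.ta_sq h₂ hz₂]; exact one_mem _) with ⟨d, hd, e⟩ | ⟨w, hw, w1, -, w2, w3, hh⟩
  · have e1 : d⁻¹ * z₂ * d⁻¹⁻¹ * c⁻¹ ∈ center G := by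
      have := (cz_iff d⁻¹).2 (inv_mem e)
      rwa [show d⁻¹ * (d * c * d⁻¹ * z₂⁻¹)⁻¹ * d⁻¹⁻¹ = d⁻¹ * z₂ * d⁻¹⁻¹ * c⁻¹ by group] at this
    have e2 : d⁻¹ * z₂ * d⁻¹⁻¹ ∈ EE (cjs d⁻¹ Y₂) := mem_EE_cjs.2 (by simpa [mul_assoc] using hz₂)
    rw [← h.ta_eq hY (h.blk_cj h₂ d⁻¹) hx (mem_cjs_of x2 (cx d hd).2) e2
      (fun e => z2Z ((cz_iff _).1 e)) hcY e1] at e2
    exact hc (inv_mem_iff.1 ((mul_mem_cancel_left (mem_sup_left e2)).1 (mem_sup_right e1)))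
  have wN : w ∈ normalizer Y₂ := h.nrm_of_comm h₂ hz₂.2 z2Z w3
  rcases hh with ⟨-, d, hd, e⟩ | ⟨-, d, hd, e⟩
  · have e2 : d * z₂ * d⁻¹ ∈ EE (cjs d Y₂) := mem_EE_cjs.2 (by simpa [mul_assoc] using hz₂)
    have e3 : d * z₂ * d⁻¹ ∉ center G := fun e => z2Z ((cz_iff _).1 e)
    rw [← h.ta_eq h₂ (h.blk_cj h₂ d) x2 (mem_cjs_of x2 (cx d hd).1) e2 e3 (mul_mem wN z2N) e] at e2
    rw [mul_inv_rev, ← mul_assoc] at e
    exact w1 (inv_mem_iff.1 ((mul_mem_cancel_left (hs _ h₂ _ e2 _ (inv_mem hz₂) e3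
      fun e => z2Z (inv_mem_iff.1 e))).1 e))
  · have n1 : d * c * d⁻¹ ∈ normalizer Y₂ := by
      simpa only [inv_mul_cancel_right] using mul_mem (center_le_nrm Y₂ e) (mul_mem wN z2N)
    have e1 : cjs d⁻¹ Y₂ = Y := by_contra fun e' => (hn _ (h.blk_cj h₂ d⁻¹) (mem_cjs_of x2 (cx d hd).2) e').1
      (mem_nrm_cjs.2 (by rwa [inv_inv]))
    have e2 : d * z * d⁻¹ ∈ EE Y₂ := by
      rw [← e1, mem_EE_cjs, inv_inv] at hz; exact hz
    have e3 := hs _ h₂ _ hz₂ _ e2 z2Z fun e => hzZ ((cz_iff _).1 e)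
    have wY : w ∈ normalizer Y := mem_nrm_iff.2 (by_contra fun e' =>
      (hn _ (h.blk_cj hY w) (mem_cjs_of hx (cx w hw).1) e').1 (mem_nrm_cjs.2 (by
        have := mul_mem (center_le_nrm Y ((cz_iff w⁻¹).2 (inv_mem w2))) hcY
        have e4 : w⁻¹ * ⁅w, c⁆⁻¹ * w⁻¹⁻¹ * c = w⁻¹ * c * w * (c⁻¹ * w⁻¹ * w * c) := by
          simp only [commutatorElement_def]; group
        rwa [e4, show c⁻¹ * w⁻¹ * w * c = 1 by group, mul_one] at this)))
    refine (hn _ (h.blk_cj hY d⁻¹) (mem_cjs_of hx (cx d hd).2) fun e' => ne (cjs_inj _ (e1.trans e'.symm))).2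
      (mem_nrm_cjs.2 ?_)
    have := mul_mem (mul_mem (center_le_nrm Y e) wY) (center_le_nrm Y e3)
    convert this using 1; group

theorem mem_of_cen {Y : Set G} (hY : Blk D Y) {c : G} (hc : c ∈ centralizer Y) (hcc : c * c ∈ center G) :
    c ∈ EE Y ⊔ center G := by
  by_contra hn
  obtain ⟨x, hx⟩ := (h.blk_nontrivial hY).nonempty
  obtain ⟨z, hz, zZ⟩ := SetLike.not_le_iff_exists.1 (h.EE_not_le hY)
  obtain ⟨Y₂, h₂, x2, ne, hh⟩ := h.two_blk hs hY hx hz zZ (hc x hx).symm (cen_le_nrm Y hc) hcc hn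
  obtain ⟨z₂, hz₂, z2Z⟩ := SetLike.not_le_iff_exists.1 (h.EE_not_le h₂)
  have key : ∀ c' ∈ centralizer Y, c' ∉ center G → c' ∉ normalizer Y₂ := fun c' h1 h2 h3 =>
    z2Z (h.f5 hY h₂ ne.symm hx x2 hz₂ (h.nrm_of_comm hY h1 h2 (ta_cm hs h₂ hz₂ z2Z h3)))
  rcases hh with e | e
  · exact key c hc (fun e => hn (mem_sup_right e)) e
  · exact key _ (mul_mem hc hz.2)
      (fun e => hn ((mul_mem_cancel_right (mem_sup_left hz)).1 (mem_sup_right e))) e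

theorem ta_star {Y Y' : Set G} (hY : Blk D Y) (hY' : Blk D Y') (ne : Y ≠ Y') {z g : G} (hz : z ∈ EE Y')
    (zZ : z ∉ center G) (hg : IsPGroup 2 (zpowers g)) (e : g * z = z * g) (h2 : g * g ∈ centralizer Y) :
    g * g ∈ center G := by
  have s := h.sub_of_blk hY'
  obtain ⟨ρ, hρ, k, hk, rfl⟩ := s.dec_of_cen_EE h.toIsF h.na (h.blk_nontrivial hY').nonempty hg
    (h.nrm_of_comm hY' hz.2 zZ (by rw [commutatorElement_eq_one_iff_mul_comm.2 e]; exact one_mem _))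
    (ta_cen hs hY' hz zZ e)
  refine h.mem_center_of_cen hY hY' ne h2 ?_
  rw [mul_assoc, ← mul_assoc k, ← cen_RR hk hρ, mul_assoc, ← mul_assoc, ← pow_two]
  exact mul_mem (s.pow_mem h.toIsF h.na hρ).2 (mul_mem hk hk)

omit hs in
theorem ta_rad {Y Y₁ : Set G} (hY : Blk D Y) (h₁ : Blk D Y₁) (ne : Y ≠ Y₁) {x y : G} (hx : x ∈ Y ∩ Y₁)
    (hy : y ∈ Y ∩ Y₁) (yx : y ≠ x) {σ : G} (hσ : σ ∈ RR Y) (hc : ∀ τ ∈ RR Y, ⁅σ, τ⁆ ∈ center G) :
    σ ∈ EE Y := by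
  have F := h.toIsF
  have s := h.sub_of_blk hY
  have sI := s.inter (h.sub_of_blk h₁)
  obtain ⟨u, hu, e⟩ := sI.exists_conj F hx hy
  have h1 := h.jl_perp hY h₁ ne hx (sI.mem_nrm_RR F hx) hu (e ▸ yx) (e ▸ hy)
    fun v hv => hc v (RR_mono Set.inter_subset_left hv)
  by_contra hn
  have xR := s.mem_nrm_RR F hx.1
  refine ne (h.eq_of_subset hY h₁ fun v hv => ?_)
  obtain ⟨c, hc', rfl⟩ := s.exists_conj F hx.1 hv
  refine (h.jl_perp hY h₁ ne hx (U := fixMod (RR Y) (center G) (RR Y) (by rw [normalizer_eq_top]; exact le_top))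
    (nm_of fun a ha => mem_fixMod.2 ⟨nm xR (mem_fixMod.1 ha).1, fun b hb => ?_⟩) (mem_fixMod.2 ⟨hσ, hc⟩)
    (fun e => hn ((s.mem_EE_iff F h.na hx.1 hσ).2 (mul_inv_eq_iff_eq_mul.1 e))) h1 fun v hv => ?_).2
  · have := (cz_iff x).2 ((mem_fixMod.1 ha).2 _ (nm (inv_mem xR) hb))
    convert this using 1; simp only [commutatorElement_def]; group
  · rw [← commutatorElement_inv]; exact inv_mem ((mem_fixMod.1 hv).2 c hc')

theorem ta_A {Y Y' : Set G} (hY : Blk D Y) (hY' : Blk D Y') (ne : Y ≠ Y') {x ρ k : G} (hx : x ∈ Y)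
    (hz : ρ * k ∈ EE Y') (zZ : ρ * k ∉ center G) (hρ : ρ ∈ RR Y) (hρ' : ρ ∉ EE Y) (hkY : k ∈ normalizer Y)
    (kx : k * x = x * k) (ρk : ρ * k = k * ρ) (kk : k * k ∈ center G) : k ∈ EE Y ⊔ center G := by
  by_contra hn
  have F := h.toIsF
  have s := h.sub_of_blk hY
  have c := cl2 F h.na s
  have kC : k ∉ centralizer Y := fun e => hn (h.mem_of_cen hs hY e kk)
  obtain ⟨z, hzE, hzZ⟩ := SetLike.not_le_iff_exists.1 (h.EE_not_le hY)
  obtain ⟨Y₁, h₁, ne₁, x1, y, hy, y1, yx⟩ : ∃ Y₁, Blk D Y₁ ∧ Y ≠ Y₁ ∧ x ∈ Y₁ ∧ ∃ y ∈ Y, y ∈ Y₁ ∧ y ≠ x := by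
    obtain ⟨Y₂, h₂, x2, ne₂, hh⟩ := h.two_blk hs hY hx hzE hzZ kx hkY kk hn
    have m := s.conj_mem F hx hρ
    have k1 : k ∈ centralizer {ρ * x * ρ⁻¹} := mem_centralizer_singleton_iff.2
      (((show Commute k ρ from ρk.symm).mul_right kx).mul_right (show Commute k ρ from ρk.symm).inv_right).eq
    obtain ⟨k', a1, a2, a3, a4, a5⟩ : ∃ k', k' ∈ normalizer Y₂ ∧ k' ∉ center G ∧ k' * k' ∈ center G ∧
        k' ∈ centralizer {x} ∧ k' ∈ centralizer {ρ * x * ρ⁻¹} := by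
      rcases hh with e | e
      · exact ⟨k, e, fun e => hn (mem_sup_right e), kk, mem_centralizer_singleton_iff.2 kx, k1⟩
      · refine ⟨_, e, fun e => hn ((mul_mem_cancel_right (mem_sup_left hzE)).1 (mem_sup_right e)), ?_,
          mul_mem (mem_centralizer_singleton_iff.2 kx) (mem_centralizer_singleton_iff.2 (hzE.2 x hx).symm),
          mul_mem k1 (mem_centralizer_singleton_iff.2 (hzE.2 _ m).symm)⟩
        have := mul_mem ((cz_iff k).2 (ta_cm hs hY hzE hzZ hkY)) kk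
        convert this using 1
        calc _ = k * z * k * (z * z)⁻¹ * z := by rw [h.ta_sq hY hzE]; group
          _ = _ := by simp only [commutatorElement_def]; group
    obtain ⟨y₂, b1, b2, b3⟩ := (h.sub_of_blk h₂).fix2 F (h.blk_nontrivial h₂) x2 (pg_of_sq h.zr a3)
      (zpowers_le.2 a1) (zpowers_le.2 a4)
    obtain ⟨Y₃, h₃, s3⟩ := h.exists_blk (Y := Fx D k') Set.inter_subset_left (h.closure_ne (h.sub_Fx a2))
    have mF : ∀ v ∈ D, k' ∈ centralizer {v} → v ∈ Y₃ := fun v hv e =>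
      s3 (mem_Fx.2 ⟨hv, (mem_centralizer_singleton_iff.1 e).symm⟩)
    by_cases e : Y = Y₃
    · exact ⟨Y₂, h₂, ne₂.symm, x2, y₂, e ▸ mF _ (h₂.sub b1) (b3 (mem_zpowers _)), b1, b2⟩
    · exact ⟨Y₃, h₃, e, mF _ (hY.sub hx) a4, _, m, mF _ (hY.sub m) a5,
        fun e => hρ' ((s.mem_EE_iff F h.na hx hρ).2 (mul_inv_eq_iff_eq_mul.1 e))⟩
  have kR := nrm_le_nrm_RR Y hkY
  have kE := nrm_le_nrm_EE Y hkY
  obtain ⟨σ, hσ, e, he, e1⟩ := la (E₀ := EE Y ⊓ center G) inf_le_left c.le c.cen c.cm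
    (fun σ hσ => by rw [← pow_two]; exact s.pow_mem F h.na hσ)
    (fun e he e' he' h1 h2 => ⟨mul_mem he he', hs Y hY e he e' he' (fun a => h1 ⟨he, a⟩) fun a => h2 ⟨he', a⟩⟩)
    (fun σ hσ hc => h.ta_rad hY h₁ ne₁ ⟨hx, x1⟩ ⟨hy, y1⟩ yx hσ fun τ hτ => (hc τ hτ).2) kR kE
    (nm_of fun a ha => ⟨nm kE ha.1, (cz_iff k).2 ha.2⟩) (center_le_centralizer _ kk)
    (fun σ hσ τ hτ h1 h2 => ⟨c.cm _ hσ _ hτ, by_contra fun hc => kC (s.cen_of_cen_EE F h.na hx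
      (pg_of_sq h.zr kk) hkY kx (ta_cen hs hY (c.cm _ hσ _ hτ) hc (c.cm_Rp kR
        (inv_mem_iff.1 ⟨inv_mem hσ, by simpa [commutatorElement_def, mul_assoc] using h1⟩)
        (inv_mem_iff.1 ⟨inv_mem hτ, by simpa [commutatorElement_def, mul_assoc] using h2⟩)).symm))⟩)
    hρ (by rw [commutatorElement_eq_one_iff_mul_comm.2 ρk]; exact one_mem _)
  have m := s.conj_mem F hx hσ
  have he' := nm (inv_mem kE) he
  refine zZ (h.f5 hY hY' ne m ?_ hz (mul_mem (s.RR_le_nrm F hρ) hkY))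
  rw [← h.Fx_eq hY' hz.2 zZ, mem_Fx]
  refine ⟨hY.sub m, ?_⟩
  have e2 : ρ * k = σ * (k * (k⁻¹ * e * k⁻¹⁻¹)) * σ⁻¹ := by
    calc _ = σ * k * (σ⁻¹ * (k⁻¹ * e * k⁻¹⁻¹)) := by rw [e1, commutatorElement_def]; group
      _ = _ := by rw [c.cen _ he' _ (inv_mem hσ)]; group
  rw [e2, conj_mul, conj_mul, ← mul_assoc x, ← kx, mul_assoc k x, he'.2 x hx, mul_assoc k _ x]

theorem false_of_small : False := by
  have F := h.toIsF
  obtain ⟨x, xD⟩ := h.nontrivial.nonempty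
  obtain ⟨Y, hY, hx, -⟩ := h.exists_blk_pair xD xD
  have s := h.sub_of_blk hY
  obtain ⟨z, hzE, hzZ⟩ := SetLike.not_le_iff_exists.1 (h.EE_not_le hY)
  obtain ⟨Y', ρ, k, hY', ne, hz, zZ, hρ, hρ', -, hkY, kx, ρk⟩ := h.exists_z hY hx
  have e1 : ρ * ρ * (k * k) = 1 := by
    rw [← h.ta_sq hY' hz]; exact ((show Commute k ρ from ρk.symm).mul_mul_mul_comm ρ k).symm
  have r2 : ρ * ρ ∈ center G := h.ta_star hs hY hY' ne.symm hz zZ (s.pg.to_le (zpowers_le.2 hρ))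
    (by rw [mul_assoc, ← ρk]) (by rw [← pow_two]; exact (s.pow_mem F h.na hρ).2)
  have kk : k * k ∈ center G := by rw [eq_inv_of_mul_eq_one_right e1]; exact inv_mem r2
  have sqEZ : ∀ e ∈ EE Y, ∀ κ ∈ center G, e * κ * (e * κ) = κ * κ := fun e he κ hκ => by
    rw [mul_assoc, ← mul_assoc κ, ← mem_center_iff.1 hκ e, mul_assoc, ← mul_assoc, h.ta_sq hY he, one_mul]
  obtain ⟨e, he, κ, hκ, rfl⟩ := mem_EZ.1 (h.ta_A hs hY hY' ne.symm hx hz zZ hρ hρ' hkY kx ρk kk)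
  obtain ⟨P, hP, -, PY, RP⟩ := h.syl_blk hY IsPGroup.of_bot bot_le
  have pz : ∀ a ∈ P, IsPGroup 2 (zpowers a) := fun a ha => hP.pgroup.to_le (zpowers_le.2 ha)
  have B1 : ∀ a ∈ P ⊓ centralizer {x}, ∀ v ∈ EE Y, v ∉ center G → a * v = v * a → a ∈ EE Y ⊔ center G :=
    fun a ha v hv vZ e' => by
      have aC := s.cen_of_cen_EE F h.na hx (pz a ha.1) (PY ha.1) (mem_centralizer_singleton_iff.1 ha.2)
        (ta_cen hs hY hv vZ e')
      refine h.mem_of_cen hs hY aC (h.ta_star hs hY hY' ne.symm hz zZ (pz a ha.1) ?_ (mul_mem aC aC))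
      exact ((show Commute a ρ from (cen_RR aC hρ).symm).mul_right
        ((show Commute a e from (cen_RR aC he.1).symm).mul_right (mem_center_iff.1 hκ a))).eq
  have B2 : ∀ a ∈ P ⊓ centralizer {x}, a * a ∈ center G := fun a ha => by
    by_cases h1 : a ∈ EE Y ⊔ center G
    · obtain ⟨v, hv, l, hl, rfl⟩ := mem_EZ.1 h1
      rw [sqEZ v hv l hl]; exact mul_mem hl hl
    have c1 := ta_cm hs hY hzE hzZ (PY ha.1)
    have c2 : ⁅z, a⁆ * ⁅z, a⁆ = 1 := h.ta_sq hY (by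
      have := mul_mem hzE (nm (nrm_le_nrm_EE Y (PY ha.1)) (inv_mem hzE))
      rwa [← mul_assoc, ← mul_assoc] at this)
    obtain ⟨v, hv, l, hl, e2⟩ := mem_EZ.1 (B1 _ (mul_mem ha ha) z hzE hzZ (by
      symm
      rw [← commutatorElement_eq_one_iff_mul_comm, ← c2]
      nth_rewrite 2 [← cz c1 a]
      simp only [commutatorElement_def]; group))
    by_cases h2 : v ∈ center G
    · exact e2 ▸ mul_mem h2 hl
    refine absurd (B1 a ha v hv h2 (mul_right_cancel (b := l) ?_)) h1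
    rw [mul_assoc, e2, mul_assoc, mem_center_iff.1 hl a, ← mul_assoc v, e2, mul_assoc]
  have := h.center_sq hY hx hP PY RP (fun a ha b hb => by
    have c1 : ⁅a, b⁆ ∈ center G := by
      have := mul_mem (mul_mem (B2 _ (mul_mem ha hb)) ((cz_iff b⁻¹).2 (inv_mem (B2 a ha)))) (inv_mem (B2 b hb))
      convert this using 1; simp only [commutatorElement_def]; group
    refine ⟨mem_sup_right c1, ?_⟩
    rw [← pow_two, ← comm_pow_left (mem_center_iff.1 c1 a).symm, pow_two,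
      commutatorElement_eq_one_iff_mul_comm, mem_center_iff.1 (B2 a ha) b]) hκ
  rw [sqEZ e he κ hκ, this, mul_one] at e1
  exact hρ' (s.sq F h.na h.sq hρ e1)

end St

end CL.FS
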